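import Cfsg.Agent.Lib.Helper8.AutOm.TorusO
import Cfsg.Agent.Lib.Lead.AutPO.OModel
import Cfsg.Agent.Lib.Helper5.AutSO.GenO2
import Cfsg.Agent.Lib.Lead.AutPSU.UModel
import Cfsg.Agent.Lib.Helper8.Tw.OMain
import Mathlib

/-!
# `Ω_N(F)`, `N` odd: every automorphism of the central quotient is standard (helper8)

The normal form (`TorusO`), lead's model theorem (`Lib/Lead/AutPO`) and helper5's generation
theorem (`Lib/Helper5/AutSO`) together: every automorphism of the central quotient of `Ω` is the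
composite of an inner automorphism, the conjugation by a diagonal orthogonal matrix and a field
automorphism.
-/

set_option autoImplicit false

namespace Cfsg.Agent.Lib.Helper8.AutOm

open Matrix Cfsg Cfsg.Agent.Lib.Helper5.GLBN Cfsg.Agent.Lib.Helper8.SpBN
open Cfsg.Agent.Lib.Helper8.Tw Cfsg.Agent.PSUT Cfsg.Agent.Lib.Helper5.AutSU
open Cfsg.Agent.AutPSU Cfsg.Agent.AutPO Cfsg.Agent.Lib.Helper8.AutSp
open scoped MatrixGroups

variable {N : ℕ} {F : Type*} [Field F]

/-! ### `SL₂` is generated by the elementary matrices -/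

theorem sl2_mem_closure (x : Matrix.SpecialLinearGroup (Fin 2) F) :
    x ∈ Subgroup.closure (Set.range (upT : F → Matrix.SpecialLinearGroup (Fin 2) F)
      ∪ Set.range (loT : F → Matrix.SpecialLinearGroup (Fin 2) F)) := by
  set K := Subgroup.closure (Set.range (upT : F → Matrix.SpecialLinearGroup (Fin 2) F)
      ∪ Set.range (loT : F → Matrix.SpecialLinearGroup (Fin 2) F)) with hK
  have hu : ∀ t : F, upT t ∈ K := fun t => Subgroup.subset_closure (Or.inl ⟨t, rfl⟩)
  have hl : ∀ t : F, loT t ∈ K := fun t => Subgroup.subset_closure (Or.inr ⟨t, rfl⟩)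
  have hdet : x.1 0 0 * x.1 1 1 - x.1 0 1 * x.1 1 0 = 1 := by
    have := x.2
    rwa [Matrix.det_fin_two] at this
  by_cases hc : x.1 1 0 = 0
  · have ha : x.1 0 0 ≠ 0 := by
      intro h
      rw [h, hc] at hdet
      simp at hdet
    have hm : ∀ a (ha : a ≠ 0), moT a ha ∈ K := by
      intro a ha
      rw [← moT_eq a ha]
      exact mul_mem (mul_mem (hu _) (hl _)) (hu _)
    have hd : dgT (x.1 0 0) ha ∈ K := by
      rw [← moT_mul_inv (x.1 0 0) ha]
      exact mul_mem (hm _ _) (inv_mem (hm _ _))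
    have e : x = dgT (x.1 0 0) ha * upT (x.1 0 1 * (x.1 0 0)⁻¹) := by
      apply Subtype.ext
      rw [Matrix.SpecialLinearGroup.coe_mul]
      have hd' : x.1 1 1 = (x.1 0 0)⁻¹ := by
        rw [hc] at hdet
        field_simp
        linear_combination hdet
      ext i j
      fin_cases i <;> fin_cases j <;> simp [dgT, upT, hc, hd']
      field_simp
    rw [e]
    exact mul_mem hd (hu _)
  · have e : x = upT ((x.1 0 0 - 1) / x.1 1 0) * loT (x.1 1 0) * upT ((x.1 1 1 - 1) / x.1 1 0) := by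
      apply Subtype.ext
      rw [Matrix.SpecialLinearGroup.coe_mul, Matrix.SpecialLinearGroup.coe_mul]
      ext i j
      fin_cases i <;> fin_cases j <;> simp [loT, upT] <;> field_simp
      all_goals first | ring1 | linear_combination hdet | linear_combination (-1 : F) * hdet
    rw [e]
    exact mul_mem (mul_mem (hu _) (hl _)) (hu _)

/-- a homomorphism from `SL₂` maps into a subgroup as soon as the elementary matrices do -/
theorem sl2_hom_mem {G : Type*} [Group G] (ι : Matrix.SpecialLinearGroup (Fin 2) F →* G)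
    (K : Subgroup G) (hu : ∀ t : F, ι (upT t) ∈ K) (hl : ∀ t : F, ι (loT t) ∈ K)
    (x : Matrix.SpecialLinearGroup (Fin 2) F) : ι x ∈ K := by
  have h : Subgroup.closure (Set.range (upT : F → Matrix.SpecialLinearGroup (Fin 2) F)
      ∪ Set.range (loT : F → Matrix.SpecialLinearGroup (Fin 2) F)) ≤ K.comap ι := by
    rw [Subgroup.closure_le]
    rintro _ (⟨t, rfl⟩ | ⟨t, rfl⟩)
    · exact hu t
    · exact hl t
  exact h (sl2_mem_closure x)

/-! ### the centre consists of scalar matrices -/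

section ctx

variable [Fintype F]

/-- a central element has equal diagonal entries at two positions joined by an entry of an
element of `Ω` -/
theorem OCtx.center_diag_eq (C : OCtx N F) {z : Omm N F} (hz : z ∈ Subgroup.center (Omm N F))
    (x : Omm N F) (a b : Fin N)
    (hx : ((glo x : GL (Fin N) F) : Matrix (Fin N) (Fin N) F) a b ≠ 0) :
    ((glo z : GL (Fin N) F) : Matrix (Fin N) (Fin N) F) a a
      = ((glo z : GL (Fin N) F) : Matrix (Fin N) (Fin N) F) b b := by
  have h := congrArg (fun g => ((glo g : GL (Fin N) F) : Matrix (Fin N) (Fin N) F) a b)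
    (Subgroup.mem_center_iff.1 hz x)
  simp only [glo_mul, Units.val_mul, Matrix.mul_apply] at h
  rw [Finset.sum_eq_single b, Finset.sum_eq_single a] at h
  · exact mul_left_cancel₀ hx (by rw [mul_comm, ← h, mul_comm])
  · intro j _ hj
    rw [C.center_offdiag hz a j (Ne.symm hj), zero_mul]
  · intro hh
    exact absurd (Finset.mem_univ _) hh
  · intro j _ hj
    rw [C.center_offdiag hz j b hj, mul_zero]
  · intro hh
    exact absurd (Finset.mem_univ _) hh

/-- consecutive positions are joined by an entry of a root element -/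
theorem OCtx.exists_entry (C : OCtx N F) (j : ℕ) (hj : j + 1 < N) :
    ∃ x : Omm N F, ((glo x : GL (Fin N) F) : Matrix (Fin N) (Fin N) F)
      ⟨j, by omega⟩ ⟨j + 1, hj⟩ ≠ 0 := by
  have hodd := C.hodd
  have hN := C.hN
  have h2 := C.h2
  by_cases c1 : 2 * j + 4 ≤ N
  · refine ⟨C.xpSo j c1 1, ?_⟩
    rw [C.glo_xpSo, xS_apply_self _ _ _ _ (fin_ne (by rw [val_rev_mk]; simp only; omega))
      (fin_ne (by rw [val_rev_mk]; simp only; omega))]
    exact one_ne_zero
  by_cases c2 : 2 * j + 3 = N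
  · refine ⟨C.xpOo j c2 2 (-2) two_neg_two, ?_⟩
    rw [C.glo_xpOo, xO_apply]
    have n1 : (⟨j, by omega⟩ : Fin N) ≠ ⟨j + 1, by omega⟩ := fin_ne (by simp)
    have n2 : (⟨j, by omega⟩ : Fin N).rev ≠ ⟨j + 1, by omega⟩ :=
      fin_ne (by rw [val_rev_mk]; simp only; omega)
    simp [n1, n2, n1.symm, h2]
  by_cases c3 : 2 * j + 1 = N
  · have hj' : 2 * (j - 1) + 3 = N := by omega
    refine ⟨C.xpOo (j - 1) hj' 2 (-2) two_neg_two, ?_⟩
    have ea : (⟨j, by omega⟩ : Fin N) = ⟨j - 1 + 1, by omega⟩ := Fin.ext (by simp only; omega)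
    have eb : (⟨j + 1, hj⟩ : Fin N) = (⟨j - 1, by omega⟩ : Fin N).rev :=
      Fin.ext (by rw [val_rev_mk]; simp only; omega)
    rw [C.glo_xpOo, ea, eb, xO_apply]
    have n1 : (⟨j - 1, by omega⟩ : Fin N) ≠ ⟨j - 1 + 1, by omega⟩ := fin_ne (by simp)
    have n2 : (⟨j - 1 + 1, by omega⟩ : Fin N) ≠ (⟨j - 1, by omega⟩ : Fin N).rev :=
      fin_ne (by rw [val_rev_mk]; simp only; omega)
    simp [n1, n2, n1.symm, h2]
  · have hj' : 2 * (N - 2 - j) + 4 ≤ N := by omega
    refine ⟨C.xpSo (N - 2 - j) hj' 1, ?_⟩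
    have ea : (⟨j, by omega⟩ : Fin N) = (⟨N - 2 - j + 1, by omega⟩ : Fin N).rev :=
      Fin.ext (by rw [val_rev_mk]; simp only; omega)
    have eb : (⟨j + 1, hj⟩ : Fin N) = (⟨N - 2 - j, by omega⟩ : Fin N).rev :=
      Fin.ext (by rw [val_rev_mk]; simp only; omega)
    rw [C.glo_xpSo, ea, eb, xS_apply _ _ _ _ (fin_ne (by rw [val_rev_mk]; simp only; omega))]
    have n1 : (⟨N - 2 - j + 1, by omega⟩ : Fin N).rev
        ≠ (⟨N - 2 - j, by omega⟩ : Fin N).rev :=
      fin_ne (by rw [val_rev_mk, val_rev_mk]; omega)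
    have n2 : (⟨N - 2 - j, by omega⟩ : Fin N)
        ≠ (⟨N - 2 - j + 1, by omega⟩ : Fin N).rev :=
      fin_ne (by rw [val_rev_mk]; simp only; omega)
    simp [n1, n2]

/-- **The centre of `Ω` consists of scalar matrices.** -/
theorem OCtx.center_scalar (C : OCtx N F) {z : Omm N F} (hz : z ∈ Subgroup.center (Omm N F)) :
    ∃ c : F, ((glo z : GL (Fin N) F) : Matrix (Fin N) (Fin N) F) = Matrix.diagonal fun _ => c := by
  have hN := C.hN
  set a0 : Fin N := ⟨0, by omega⟩ with ha0
  have key : ∀ k : ℕ, ∀ a : Fin N, (a : ℕ) = k →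
      ((glo z : GL (Fin N) F) : Matrix (Fin N) (Fin N) F) a a
        = ((glo z : GL (Fin N) F) : Matrix (Fin N) (Fin N) F) a0 a0 := by
    intro k
    induction k with
    | zero =>
      intro a ha
      have : a = a0 := Fin.ext ha
      rw [this]
    | succ k ih =>
      intro a ha
      have hk : k < N := by have := a.2; omega
      obtain ⟨x, hx⟩ := C.exists_entry k (by have := a.2; omega)
      have ea : a = (⟨k + 1, by have := a.2; omega⟩ : Fin N) := Fin.ext ha
      rw [ea, ← C.center_diag_eq hz x ⟨k, hk⟩ ⟨k + 1, _⟩ hx]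
      exact ih ⟨k, hk⟩ rfl
  refine ⟨((glo z : GL (Fin N) F) : Matrix (Fin N) (Fin N) F) a0 a0, ?_⟩
  ext i j
  by_cases hij : i = j
  · subst hij
    rw [Matrix.diagonal_apply_eq]
    exact key _ i rfl
  · rw [Matrix.diagonal_apply_ne _ hij]
    exact C.center_offdiag hz i j hij

/-! ### lead's context -/

theorem symHom_upT_mem (h2 : (2 : F) ≠ 0) (κ : ℕ) (hN : N = 2 * κ + 3) (t : F) :
    symHom h2 κ hN (upT t) ∈ Xp N F (RingHom.id F) κ := by
  have hb : -(t * t) / 2 + (RingHom.id F) (-(t * t) / 2) + t * (RingHom.id F) t = 0 := by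
    simp only [RingHom.id_apply]
    field_simp
    ring
  rw [← xpO_eq_symHom h2 κ hN t _ hb]
  exact xpO_mem_Xp idInv κ hN.symm t _ hb

theorem symHom_loT_mem (h2 : (2 : F) ≠ 0) (κ : ℕ) (hN : N = 2 * κ + 3) (t : F) :
    symHom h2 κ hN (loT t) ∈ Xm N F (RingHom.id F) κ := by
  have hb : -(2 * (t * t)) + (RingHom.id F) (-(2 * (t * t)))
      + (-(2 * t)) * (RingHom.id F) (-(2 * t)) = 0 := by
    simp only [RingHom.id_apply]
    ring
  have e := xmO_eq_symHom h2 κ hN (-(2 * t)) _ hb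
  have e2 : -(-(2 * t)) / 2 = t := by
    field_simp
  rw [e2] at e
  rw [← e]
  exact xmO_mem_Xm idInv κ hN.symm _ _ hb

/-- lead's context for `Ω` -/
@[reducible] noncomputable def OCtx.bctx (C : OCtx N F) (κ : ℕ) (hκ : N = 2 * κ + 3)
    {Q : Type*} [Group Q] (f : Omm N F →* Q) (hf : Function.Surjective f)
    (hker : f.ker = Subgroup.center (Omm N F)) : BCtx N F Q where
  h2 := C.h2
  κ := κ
  hN := hκ
  G0 := OmS N F
  f := f
  hf := hf
  hker := hker
  hZ := fun _ hg => C.center_scalar hg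
  hS := fun j hj x => sl2_hom_mem (sO j hj) (OmS N F)
    (fun t => by rw [sO_upT]; exact C.Xp_le_OmS j (xpS_mem_Xp idInv j hj t))
    (fun t => by rw [sO_loT]; exact C.Xm_le_OmS j (xmS_mem_Xm idInv j hj t)) x
  hM := fun x => sl2_hom_mem (symHom C.h2 κ hκ) (OmS N F)
    (fun t => C.Xp_le_OmS κ (symHom_upT_mem C.h2 κ hκ t))
    (fun t => C.Xm_le_OmS κ (symHom_loT_mem C.h2 κ hκ t)) x

/-- an automorphism preserves the derived subgroup -/
theorem mem_commutator_of_equiv {G : Type*} [Group G] (e : G ≃* G) {g : G}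
    (hg : g ∈ commutator G) : e g ∈ commutator G := by
  rw [← map_commutator_top e]
  exact ⟨g, hg, rfl⟩

/-- **Every automorphism of the central quotient of `Ω_N(F)` is standard**: the composite of an
inner automorphism, the conjugation by a diagonal orthogonal matrix and a field automorphism. -/
theorem OCtx.aut_standard (C : OCtx N F) (p : ℕ) [Fact p.Prime] [CharP F p] {Q : Type*}
    [Group Q] (f : Omm N F →* Q) (hf : Function.Surjective f)
    (hker : f.ker = Subgroup.center (Omm N F)) (θ : Q ≃* Q) :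
    ∃ (x : Q) (ψ : F ≃+* F) (d : Fin N → Fˣ)
      (_ : ∀ i, (d i : F) * (RingHom.id F) (d i.rev) = 1),
      ∀ g : Omm N F, ∃ g' : Omm N F,
        glo g' = dgU d * Matrix.GeneralLinearGroup.map (ψ : F →+* F) (glo g) * (dgU d)⁻¹ ∧
        θ (f g) = x * f g' * x⁻¹ := by
  have hN := C.hN
  have hodd := C.hodd
  obtain ⟨x, -, -, -, -, hXp, hXm⟩ := C.om_normal_form_torus p f hf hker θ
  set th : Q ≃* Q := θ.trans (MulAut.conj x⁻¹) with hth
  have hκ : N = 2 * ((N - 3) / 2) + 3 := by omega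
  set B : BCtx N F Q := C.bctx ((N - 3) / 2) hκ f hf hker with hB
  have hPhi : B.PhiInv := by
    intro ψ d hd g hg
    exact mem_commutator_of_equiv _ hg
  obtain ⟨ψ, d, hd, h⟩ := B.model_aut hPhi th
    (by
      intro i hi g hg
      obtain ⟨g', hg', e⟩ := map_elem f th _ (hXp i hi) g hg
      exact ⟨g', hg', e⟩)
    (by
      intro i hi g hg
      obtain ⟨g', hg', e⟩ := map_elem f th _ (hXm i hi) g hg
      exact ⟨g', hg', e⟩)
    (fun H hH => Cfsg.Agent.Lib.Helper5.AutSO.gen_odd C.h2 (by omega) C.hodd H hH)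
  refine ⟨x, ψ, d, hd, fun g => ⟨B.PhiR hPhi ψ d hd g, ?_, ?_⟩⟩
  · show Cfsg.Agent.AutPSU.gl ((B.PhiR hPhi ψ d hd g : ↥B.G0) : ↥(N1 N F (RingHom.id F))) = _
    rw [BCtx.PhiR_coe, gl_Phi]
    rfl
  · have e := h g
    have e2 : th (f g) = x⁻¹ * θ (f g) * x⁻¹⁻¹ := by
      rw [hth, MulEquiv.trans_apply, MulAut.conj_apply]
    have e3 : B.f g = f g := rfl
    have e4 : B.f (B.PhiR hPhi ψ d hd g) = f (B.PhiR hPhi ψ d hd g) := rfl
    rw [e3, e4, e2] at e
    rw [← e]
    group

end ctx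

end Cfsg.Agent.Lib.Helper8.AutOm
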