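import Cfsg.Agent.Lib.Helper8.AutOm.Defs
import Cfsg.Agent.Lib.Helper7.AutPSL.BNTransfer
import Mathlib

/-!
# The `(B, N)`-pair of `Ω_N(F)`, `N` odd (helper8)

From the `(B, N)`-pair of the orthogonal group `UH N F id`, by changing the representatives of
the reflections to elements of `Ω` and pulling back (helper7's `changeS`, `comapInj`); this follows
helper5's construction for the special unitary group.
-/

set_option autoImplicit false

namespace Cfsg.Agent.Lib.Helper8.AutOm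

open Matrix Cfsg Cfsg.Agent.Lib.Helper5.GLBN Cfsg.Agent.Lib.Helper8.SpBN
open Cfsg.Agent.Lib.Helper8.Tw Cfsg.Agent.PSUT Cfsg.Agent.Lib.H7AutPSL
open Cfsg.Agent.Lib.Helper5.AutSU
open scoped MatrixGroups

variable {N : ℕ} {F : Type*} [Field F] [Fintype F]

/-- the `(B, N)`-pair of the orthogonal group -/
noncomputable def OCtx.P0 (C : OCtx N F) : BNPair ↥(UH N F (RingHom.id F)) := C.T.bn

/-- the permutation matrix of a reflection, in the orthogonal group -/
noncomputable def OCtx.pU (C : OCtx N F) (j : ℕ) : ↥(UH N F (RingHom.id F)) := C.T.sF j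

theorem OCtx.pU_coe (C : OCtx N F) {j : ℕ} (hj : j < N / 2) :
    ((C.pU j : ↥(UH N F (RingHom.id F))) : GL (Fin N) F) = permGL (rho N j) :=
  C.T.sF_coe hj

/-- a representative in `Ω` of the coset of the diagonal matrices -/
noncomputable def OCtx.fix1 (C : OCtx N F) (g : ↥(UH N F (RingHom.id F))) : Omm N F :=
  Classical.choose (C.exists_om_mul_diag g)

theorem OCtx.fix1_spec (C : OCtx N F) (g : ↥(UH N F (RingHom.id F))) :
    IsMono (((g⁻¹ * toO N F (C.fix1 g) : ↥(UH N F (RingHom.id F))) : GL (Fin N) F) :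
      Matrix (Fin N) (Fin N) F) 1 :=
  Classical.choose_spec (C.exists_om_mul_diag g)

/-- the representatives of the reflections in `Ω` -/
noncomputable def OCtx.sN (C : OCtx N F) (j : ℕ) : Omm N F := C.fix1 (C.pU j)

/-- a diagonal element of the orthogonal group lies in `B ⊓ N` -/
theorem OCtx.diag_mem (C : OCtx N F) {t : ↥(UH N F (RingHom.id F))}
    (ht : IsMono ((t : GL (Fin N) F) : Matrix (Fin N) (Fin N) F) 1) : t ∈ C.P0.B ⊓ C.P0.N := by
  constructor
  · exact (C.T.mem_BF (g := t)).2 (mem_upper_of_isMono_one ht)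
  · exact (C.T.mem_NF (g := t)).2 ⟨1, ht⟩

/-- the new set of representatives -/
def OCtx.S1 (C : OCtx N F) : Set ↥(UH N F (RingHom.id F)) :=
  {s | ∃ j < N / 2, s = toO N F (C.sN j)}

theorem OCtx.mem_P0S (C : OCtx N F) {s : ↥(UH N F (RingHom.id F))} :
    s ∈ C.P0.S ↔ ∃ j < N / 2, s = C.pU j := by
  constructor
  · rintro ⟨j, hj, e⟩
    refine ⟨j, hj, Subtype.ext ?_⟩
    rw [e]
    exact (C.pU_coe hj).symm
  · rintro ⟨j, hj, rfl⟩
    exact ⟨j, hj, C.pU_coe hj⟩

/-- the `(B, N)`-pair of the orthogonal group with representatives in `Ω` -/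
noncomputable def OCtx.P1 (C : OCtx N F) : BNPair ↥(UH N F (RingHom.id F)) :=
  changeS C.P0 C.S1
    (by
      rintro s' ⟨j, hj, rfl⟩
      refine ⟨C.pU j, C.mem_P0S.2 ⟨j, hj, rfl⟩, (C.pU j)⁻¹ * toO N F (C.sN j),
        C.diag_mem (C.fix1_spec _), ?_⟩
      group)
    (by
      intro s hs
      obtain ⟨j, hj, rfl⟩ := C.mem_P0S.1 hs
      refine ⟨toO N F (C.sN j), ⟨j, hj, rfl⟩, (C.pU j)⁻¹ * toO N F (C.sN j),
        C.diag_mem (C.fix1_spec _), ?_⟩
      group)
    (by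
      rintro s₁ ⟨i, hi, rfl⟩ s₂ ⟨j, hj, rfl⟩ h
      have h1 := (C.diag_mem (C.fix1_spec (C.pU i))).1
      have h2 := (C.diag_mem (C.fix1_spec (C.pU j))).1
      have h3 : (C.pU i)⁻¹ * C.pU j ∈ C.P0.B := by
        have e : (C.pU i)⁻¹ * C.pU j
            = ((C.pU i)⁻¹ * toO N F (C.sN i))
              * ((toO N F (C.sN i))⁻¹ * toO N F (C.sN j))
              * ((C.pU j)⁻¹ * toO N F (C.sN j))⁻¹ := by group
        rw [e]
        exact mul_mem (mul_mem h1 h) (inv_mem h2)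
      have h4 : C.pU i = C.pU j :=
        C.P0.inj _ (C.mem_P0S.2 ⟨i, hi, rfl⟩) _ (C.mem_P0S.2 ⟨j, hj, rfl⟩) h3
      show toO N F (C.fix1 (C.pU i)) = toO N F (C.fix1 (C.pU j))
      rw [h4])

/-- the `(B, N)`-pair of `Ω` -/
noncomputable def OCtx.P (C : OCtx N F) : BNPair (Omm N F) :=
  comapInj C.P1 (toO N F) toO_injective
    (by
      rintro s ⟨j, hj, rfl⟩
      exact ⟨C.sN j, rfl⟩)
    (by
      intro g
      refine ⟨g⁻¹ * toO N F (C.fix1 g), C.diag_mem (C.fix1_spec g), C.fix1 g, ?_⟩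
      group)

theorem OCtx.P_B (C : OCtx N F) : C.P.B = BBo N F := by
  ext g
  exact (C.T.mem_BF (g := toO N F g))

theorem OCtx.mem_P_N (C : OCtx N F) {g : Omm N F} : g ∈ C.P.N ↔ glo g ∈ monoN N F := by
  exact (C.T.mem_NF (g := toO N F g))

theorem OCtx.P_S (C : OCtx N F) : C.P.S = {s | ∃ j < N / 2, s = C.sN j} := by
  ext g
  show toO N F g ∈ C.S1 ↔ _
  constructor
  · rintro ⟨j, hj, e⟩
    exact ⟨j, hj, toO_injective e⟩
  · rintro ⟨j, hj, rfl⟩
    exact ⟨j, hj, rfl⟩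

/-- the matrix of a representative of a reflection -/
theorem OCtx.exists_glo_sN (C : OCtx N F) {j : ℕ} (hj : j < N / 2) :
    ∃ t : GL (Fin N) F, IsMono (t : Matrix (Fin N) (Fin N) F) 1 ∧
      glo (C.sN j) = permGL (rho N j) * t := by
  refine ⟨_, C.fix1_spec (C.pU j), ?_⟩
  rw [Subgroup.coe_mul, Subgroup.coe_inv, C.pU_coe hj]
  show glo (C.sN j) = permGL (rho N j) * ((permGL (rho N j))⁻¹ * glo (C.sN j))
  group

end Cfsg.Agent.Lib.Helper8.AutOm
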