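import Cfsg.Agent.Lib.Helper5.AutSU.Torus
import Cfsg.Agent.Lib.Helper8.Tw.OData
import Mathlib

/-!
# The model of `Ω_N(F)`, `N` odd (helper8)

The model of the special orthogonal group is helper5's `SUm N F (RingHom.id F)`, the elements of
determinant one of the group `UH N F (RingHom.id F)` of the antidiagonal symmetric form.  The
model of `Ω` is its derived subgroup `OmS N F`; for odd `N` this is the image of the derived
subgroup of the full orthogonal group.
-/

set_option autoImplicit false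

namespace Cfsg.Agent.Lib.Helper8.AutOm

open Matrix Cfsg Cfsg.Agent.Lib.Helper5.GLBN Cfsg.Agent.Lib.Helper8.SpBN
open Cfsg.Agent.Lib.Helper8.Tw Cfsg.Agent.PSUT Cfsg.Agent.Lib.Helper5.AutSU
open scoped MatrixGroups commutatorElement

variable {N : ℕ} {F : Type*} [Field F]

/-- the model of the special orthogonal group -/
abbrev SOm (N : ℕ) (F : Type*) [Field F] : Type _ := SUm N F (RingHom.id F)

/-- the model of `Ω`: the derived subgroup of the special orthogonal group -/
def OmS (N : ℕ) (F : Type*) [Field F] : Subgroup (SOm N F) := commutator (SOm N F)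

instance OmS_normal : (OmS N F).Normal := by
  unfold OmS
  infer_instance

/-- the model of `Ω`, as a type -/
abbrev Omm (N : ℕ) (F : Type*) [Field F] : Type _ := ↥(OmS N F)

/-- the underlying matrix, as a homomorphism -/
def gloHom (N : ℕ) (F : Type*) [Field F] : Omm N F →* GL (Fin N) F :=
  (glHom N F (RingHom.id F)).comp (OmS N F).subtype

/-- the underlying matrix -/
def glo (g : Omm N F) : GL (Fin N) F := gloHom N F g

theorem glo_eq (g : Omm N F) : glo g = gl (g : SOm N F) := rfl

theorem glo_mul (g h : Omm N F) : glo (g * h) = glo g * glo h := map_mul _ g h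

theorem glo_one : glo (1 : Omm N F) = 1 := map_one _

theorem glo_inv (g : Omm N F) : glo g⁻¹ = (glo g)⁻¹ := map_inv _ g

theorem glo_injective : Function.Injective (glo : Omm N F → GL (Fin N) F) := by
  intro g h e
  exact Subtype.ext (gl_injective e)

theorem glo_mem_UH (g : Omm N F) : glo g ∈ UH N F (RingHom.id F) := gl_mem_UH _

theorem glo_det (g : Omm N F) :
    ((glo g : GL (Fin N) F) : Matrix (Fin N) (Fin N) F).det = 1 := gl_det _

/-- the inclusion into the full orthogonal group -/
def toO (N : ℕ) (F : Type*) [Field F] : Omm N F →* ↥(UH N F (RingHom.id F)) :=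
  (N1 N F (RingHom.id F)).subtype.comp (OmS N F).subtype

theorem toO_coe (g : Omm N F) : ((toO N F g : ↥(UH N F (RingHom.id F))) : GL (Fin N) F) = glo g :=
  rfl

theorem toO_injective : Function.Injective (toO N F) := by
  intro g h e
  apply glo_injective
  rw [← toO_coe, ← toO_coe, e]

/-! ### the derived subgroup of the full orthogonal group -/

/-- the determinant of an orthogonal matrix is a sign -/
theorem det_eq_or_of_mem_UH {g : GL (Fin N) F} (hg : g ∈ UH N F (RingHom.id F)) :
    (g : Matrix (Fin N) (Fin N) F).det = 1 ∨ (g : Matrix (Fin N) (Fin N) F).det = -1 := by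
  have h := det_mul_map_det hg
  rw [RingHom.id_apply] at h
  have h' : ((g : Matrix (Fin N) (Fin N) F).det - 1) * ((g : Matrix (Fin N) (Fin N) F).det + 1)
      = 0 := by linear_combination h
  rcases mul_eq_zero.1 h' with h1 | h1
  · left; linear_combination h1
  · right; linear_combination h1

/-- minus the identity, in the orthogonal group -/
def negOne (N : ℕ) (F : Type*) [Field F] : ↥(UH N F (RingHom.id F)) :=
  ⟨-1, by
    rw [mem_UH_iff]
    intro a b
    have e : ((-1 : GL (Fin N) F))⁻¹ = -1 := by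
      apply inv_eq_of_mul_eq_one_left
      rw [neg_mul_neg, one_mul]
    rw [e, RingHom.id_apply, Units.val_neg, Units.val_one, Matrix.neg_apply, Matrix.neg_apply,
      Matrix.one_apply, Matrix.one_apply]
    by_cases h : a = b
    · rw [if_pos h, if_pos (by rw [h])]
    · rw [if_neg h, if_neg (fun h' => h (Fin.rev_injective h').symm)]⟩

theorem negOne_coe :
    (((negOne N F : ↥(UH N F (RingHom.id F))) : GL (Fin N) F) : Matrix (Fin N) (Fin N) F) = -1 := by
  show ((-1 : GL (Fin N) F) : Matrix (Fin N) (Fin N) F) = -1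
  rw [Units.val_neg, Units.val_one]

theorem negOne_mem_center : negOne N F ∈ Subgroup.center ↥(UH N F (RingHom.id F)) := by
  rw [Subgroup.mem_center_iff]
  intro g
  apply Subtype.ext
  apply Units.ext
  rw [Subgroup.coe_mul, Subgroup.coe_mul, Units.val_mul, Units.val_mul, negOne_coe,
    Matrix.mul_neg, Matrix.neg_mul, Matrix.mul_one, Matrix.one_mul]

/-- every orthogonal matrix of odd size is, up to sign, of determinant one -/
theorem exists_central_mul (hN : N % 2 = 1) (g : ↥(UH N F (RingHom.id F))) :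
    ∃ c ∈ Subgroup.center ↥(UH N F (RingHom.id F)), ∃ s : SOm N F,
      g = c * (s : ↥(UH N F (RingHom.id F))) := by
  rcases det_eq_or_of_mem_UH g.2 with h | h
  · exact ⟨1, one_mem _, ⟨g, mem_N1.2 h⟩, (one_mul _).symm⟩
  · have hd : (((negOne N F * g : ↥(UH N F (RingHom.id F))) : GL (Fin N) F) :
        Matrix (Fin N) (Fin N) F).det = 1 := by
      rw [Subgroup.coe_mul, Units.val_mul, negOne_coe, Matrix.neg_mul, Matrix.one_mul,
        Matrix.det_neg, h, Fintype.card_fin]
      have hodd : Odd N := Nat.odd_iff.2 hN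
      rw [hodd.neg_one_pow, neg_mul_neg, one_mul]
    refine ⟨negOne N F, negOne_mem_center, ⟨negOne N F * g, mem_N1.2 hd⟩, ?_⟩
    show g = negOne N F * (negOne N F * g)
    rw [← mul_assoc]
    have e : negOne N F * negOne N F = (1 : ↥(UH N F (RingHom.id F))) := by
      apply Subtype.ext
      apply Units.ext
      rw [Subgroup.coe_mul, Units.val_mul, negOne_coe, neg_mul_neg, Matrix.one_mul]
      rfl
    rw [e, one_mul]

theorem commutatorElement_central_left {G : Type*} [Group G] {c : G}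
    (hc : c ∈ Subgroup.center G) (s h : G) : ⁅c * s, h⁆ = ⁅s, h⁆ := by
  have h1 : ∀ x, x * c = c * x := fun x => Subgroup.mem_center_iff.1 hc x
  rw [commutatorElement_def, commutatorElement_def]
  have e : c * s * h * (c * s)⁻¹ * h⁻¹ = c * (s * h * s⁻¹) * c⁻¹ * h⁻¹ := by group
  rw [e, ← h1 (s * h * s⁻¹)]
  group

theorem commutatorElement_central_mul {G : Type*} [Group G] {c c' : G}
    (hc : c ∈ Subgroup.center G) (hc' : c' ∈ Subgroup.center G) (s s' : G) :
    ⁅c * s, c' * s'⁆ = ⁅s, s'⁆ := by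
  rw [commutatorElement_central_left hc, ← commutatorElement_inv,
    commutatorElement_central_left hc', commutatorElement_inv]

/-- **The derived subgroup of the orthogonal group of odd size is that of the special orthogonal
group.** -/
theorem commutator_UH_eq (hN : N % 2 = 1) :
    commutator ↥(UH N F (RingHom.id F)) = (OmS N F).map (N1 N F (RingHom.id F)).subtype := by
  apply le_antisymm
  · rw [commutator_def, Subgroup.commutator_le]
    intro g _ h _
    obtain ⟨c, hc, s, rfl⟩ := exists_central_mul hN g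
    obtain ⟨c', hc', s', rfl⟩ := exists_central_mul hN h
    rw [commutatorElement_central_mul hc hc']
    refine ⟨⁅s, s'⁆, ?_, ?_⟩
    · exact Subgroup.commutator_mem_commutator (Subgroup.mem_top s) (Subgroup.mem_top s')
    · rw [map_commutatorElement]
      rfl
  · unfold OmS
    rw [commutator_def, Subgroup.map_commutator, commutator_def]
    exact Subgroup.commutator_mono le_top le_top

theorem range_toO (hN : N % 2 = 1) :
    (toO N F).range = commutator ↥(UH N F (RingHom.id F)) := by
  rw [commutator_UH_eq hN]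
  ext x
  constructor
  · rintro ⟨g, rfl⟩
    exact ⟨(g : SOm N F), g.2, rfl⟩
  · rintro ⟨s, hs, rfl⟩
    exact ⟨⟨s, hs⟩, rfl⟩

/-! ### the standing hypotheses -/

/-- the standing hypotheses -/
structure OCtx (N : ℕ) (F : Type*) [Field F] [Fintype F] : Prop where
  hN : 7 ≤ N
  hodd : N % 2 = 1
  h2 : (2 : F) ≠ 0

section ctx

variable [Fintype F]

/-- helper8's data of the orthogonal group -/
noncomputable def OCtx.T (C : OCtx N F) : TwData N F := oData C.h2 N C.hodd

theorem OCtx.T_G (C : OCtx N F) : C.T.G = UH N F (RingHom.id F) := rfl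

/-- the unitriangular orthogonal matrices lie in the derived subgroup -/
theorem OCtx.UF_le (C : OCtx N F) : C.T.UF ≤ commutator ↥(UH N F (RingHom.id F)) := by
  obtain ⟨p, hp⟩ := CharP.exists F
  have : Fact p.Prime := ⟨CharP.char_is_prime F p⟩
  exact C.T.UF_le_commutator p (oData_hC C.h2 N C.hodd)

/-- every orthogonal matrix is the product of an element of `Ω` and a diagonal matrix -/
theorem OCtx.exists_om_mul_diag (C : OCtx N F) (g : ↥(UH N F (RingHom.id F))) :
    ∃ m : Omm N F, IsMono (((g⁻¹ * toO N F m : ↥(UH N F (RingHom.id F))) : GL (Fin N) F) :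
      Matrix (Fin N) (Fin N) F) 1 := by
  obtain ⟨p, hp⟩ := CharP.exists F
  have : Fact p.Prime := ⟨CharP.char_is_prime F p⟩
  have htop := C.T.diagK_sup_commutator p C.UF_le
  have hg : (g : ↥C.T.G) ∈ commutator ↥C.T.G ⊔ C.T.st.diagK := by
    rw [sup_comm, htop]
    trivial
  have hg' : (g : ↥C.T.G) ∈ ((commutator ↥C.T.G ⊔ C.T.st.diagK : Subgroup ↥C.T.G) : Set ↥C.T.G) :=
    hg
  rw [Subgroup.normal_mul] at hg'
  obtain ⟨c, hc, t, ht, e⟩ := Set.mem_mul.1 hg'
  have hc' : (c : ↥(UH N F (RingHom.id F))) ∈ (toO N F).range := by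
    rw [range_toO C.hodd]
    exact hc
  obtain ⟨m, hm⟩ := hc'
  refine ⟨m, ?_⟩
  have e' : (c : ↥(UH N F (RingHom.id F))) * (t : ↥(UH N F (RingHom.id F))) = g := e
  have e2 : g⁻¹ * toO N F m = (t : ↥(UH N F (RingHom.id F)))⁻¹ := by
    rw [hm, ← e']
    group
  rw [e2]
  exact C.T.mem_diagK_iff.1 (inv_mem ht)

end ctx

/-! ### the subgroups of `Ω` -/

section fin

variable [Finite F]

/-- the upper triangular elements of `Ω` -/
def BBo (N : ℕ) (F : Type*) [Field F] : Subgroup (Omm N F) :=
  (BB N F (RingHom.id F)).subgroupOf (OmS N F)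

theorem mem_BBo {g : Omm N F} :
    g ∈ BBo N F ↔ ∀ a b : Fin N, b < a → (glo g : Matrix (Fin N) (Fin N) F) a b = 0 :=
  mem_BB (g := (g : SOm N F))

/-- the upper unitriangular elements of `Ω` -/
def UUo (N : ℕ) (F : Type*) [Field F] [Finite F] : Subgroup (Omm N F) :=
  (UU N F (RingHom.id F)).subgroupOf (OmS N F)

theorem mem_UUo {g : Omm N F} :
    g ∈ UUo N F ↔ IsUpU (glo g : Matrix (Fin N) (Fin N) F) := Iff.rfl

/-- the lower unitriangular elements of `Ω` -/
def VVo (N : ℕ) (F : Type*) [Field F] [Finite F] : Subgroup (Omm N F) :=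
  (VV N F (RingHom.id F)).subgroupOf (OmS N F)

theorem mem_VVo {g : Omm N F} :
    g ∈ VVo N F ↔ IsLoU (glo g : Matrix (Fin N) (Fin N) F) := Iff.rfl

theorem UUo_le_BBo : UUo N F ≤ BBo N F := fun _ hg => mem_BBo.2 (mem_UUo.1 hg).1

theorem BBo_inf_VVo : BBo N F ⊓ VVo N F = ⊥ := by
  rw [eq_bot_iff]
  rintro g ⟨hB, hV⟩
  rw [Subgroup.mem_bot]
  have h : (g : SOm N F) ∈ BB N F (RingHom.id F) ⊓ VV N F (RingHom.id F) := ⟨hB, hV⟩
  rw [BB_inf_VV, Subgroup.mem_bot] at h
  exact Subtype.ext h

/-- the block upper triangular elements of the node `j` -/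
def QQo (N : ℕ) (F : Type*) [Field F] [Finite F] (j : ℕ) : Subgroup (Omm N F) :=
  (QQ N F (RingHom.id F) j).subgroupOf (OmS N F)

theorem mem_QQo {j : ℕ} (hj : 2 * j + 2 ≤ N) {g : Omm N F} :
    g ∈ QQo N F j ↔ IsBlk j (glo g : Matrix (Fin N) (Fin N) F) :=
  mem_QQ hj (g := (g : SOm N F))

theorem BBo_le_QQo (j : ℕ) : BBo N F ≤ QQo N F j := fun _ hg => BB_le_QQ j hg

/-- the negative root subgroup of the node `j` -/
def Xmo (N : ℕ) (F : Type*) [Field F] [Finite F] (j : ℕ) : Subgroup (Omm N F) :=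
  (Xm N F (RingHom.id F) j).subgroupOf (OmS N F)

theorem Xmo_eq (j : ℕ) : Xmo N F j = QQo N F j ⊓ VVo N F := rfl

theorem mem_Xmo {j : ℕ} (hj : 2 * j + 2 ≤ N) {g : Omm N F} :
    g ∈ Xmo N F j ↔ IsLoU (glo g : Matrix (Fin N) (Fin N) F) ∧
      IsBlk j (glo g : Matrix (Fin N) (Fin N) F) :=
  mem_Xm hj (g := (g : SOm N F))

/-- the positive root subgroup of the node `j` -/
def Xpo (N : ℕ) (F : Type*) [Field F] [Finite F] (j : ℕ) : Subgroup (Omm N F) :=
  (Xp N F (RingHom.id F) j).subgroupOf (OmS N F)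

theorem mem_Xpo {j : ℕ} (hj : 2 * j + 2 ≤ N) {g : Omm N F} :
    g ∈ Xpo N F j ↔ IsUpU (glo g : Matrix (Fin N) (Fin N) F) ∧
      IsBlkU j (glo g : Matrix (Fin N) (Fin N) F) :=
  mem_Xp hj (g := (g : SOm N F))

theorem Xpo_le_UUo (j : ℕ) : Xpo N F j ≤ UUo N F := fun _ hg => Xp_le_UU j hg

theorem Xmo_le_VVo (j : ℕ) : Xmo N F j ≤ VVo N F := fun _ hg => Xm_le_VV j hg

end fin

section ctx2

variable [Fintype F]

/-- the diagonal elements of `Ω` -/
def TTo (N : ℕ) (F : Type*) [Field F] [Fintype F] : Subgroup (Omm N F) :=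
  (TT N F (RingHom.id F)).subgroupOf (OmS N F)

theorem mem_TTo {g : Omm N F} : g ∈ TTo N F ↔ ∀ a b : Fin N, a ≠ b →
    ((glo g : GL (Fin N) F) : Matrix (Fin N) (Fin N) F) a b = 0 := Iff.rfl

/-- an element of the special orthogonal group whose image in the orthogonal group is a
commutator lies in `Ω` -/
theorem OCtx.mem_OmS_of (C : OCtx N F) {s : SOm N F}
    (h : (s : ↥(UH N F (RingHom.id F))) ∈ commutator ↥(UH N F (RingHom.id F))) : s ∈ OmS N F := by
  rw [commutator_UH_eq C.hodd] at h
  obtain ⟨s', hs', e⟩ := h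
  have : s' = s := Subtype.ext e
  rw [← this]
  exact hs'

/-- the upper unitriangular matrices lie in `Ω` -/
theorem OCtx.UU_le_OmS (C : OCtx N F) : UU N F (RingHom.id F) ≤ OmS N F := by
  intro u hu
  apply C.mem_OmS_of
  apply C.UF_le
  exact C.T.mem_UF.2 (mem_UU_iff_UT.1 hu)

/-- the lower unitriangular matrices lie in `Ω` -/
theorem OCtx.VV_le_OmS (C : OCtx N F) : VV N F (RingHom.id F) ≤ OmS N F := by
  intro v hv
  apply C.mem_OmS_of
  set r : ↥(UH N F (RingHom.id F)) := C.T.n0F with hr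
  have hw : r⁻¹ * (v : ↥(UH N F (RingHom.id F))) * r ∈ commutator ↥(UH N F (RingHom.id F)) := by
    apply C.UF_le
    apply C.T.mem_UF.2
    rw [mem_UT, mem_upper]
    have e : ((r⁻¹ * (v : ↥(UH N F (RingHom.id F))) * r : ↥(UH N F (RingHom.id F))) :
        GL (Fin N) F) = (RG N F)⁻¹ * gl v * RG N F := rfl
    rw [e]
    obtain ⟨h1, h2⟩ := mem_VV.1 hv
    constructor
    · intro a b hba
      rw [RG_conj_apply]
      exact h1 a.rev b.rev (Fin.rev_lt_rev.2 hba)
    · intro a
      rw [RG_conj_apply]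
      exact h2 a.rev
  have := (inferInstance : (commutator ↥(UH N F (RingHom.id F))).Normal).conj_mem _ hw r
  have e : r * (r⁻¹ * (v : ↥(UH N F (RingHom.id F))) * r) * r⁻¹
      = (v : ↥(UH N F (RingHom.id F))) := by group
  rwa [e] at this

theorem OCtx.Xp_le_OmS (C : OCtx N F) (j : ℕ) : Xp N F (RingHom.id F) j ≤ OmS N F :=
  (Xp_le_UU j).trans C.UU_le_OmS

theorem OCtx.Xm_le_OmS (C : OCtx N F) (j : ℕ) : Xm N F (RingHom.id F) j ≤ OmS N F :=
  (Xm_le_VV j).trans C.VV_le_OmS

end ctx2

end Cfsg.Agent.Lib.Helper8.AutOm
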