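import Cfsg.Agent.Lib.Helper8.AutOm.ModelO
import Cfsg.Prelude.Def_LieTypeDatum
import Mathlib

/-!
# The automorphisms of `PΩ_{2m+1}(F)` are induced by semilinear isometries (helper8)

Transport of `OCtx.aut_standard` from the model `Omm (2 m + 1) F` to the group
`POmega F (quadFormOdd m F)` of the statements.
-/

set_option autoImplicit false

namespace Cfsg.Agent.Lib.Helper8.AutOm

open Matrix Cfsg Cfsg.Agent.Lib.Helper5.GLBN Cfsg.Agent.Lib.Helper8.SpBN
open Cfsg.Agent.Lib.Helper8.Tw Cfsg.Agent.PSUT Cfsg.Agent.Lib.Helper5.AutSU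
open Cfsg.Agent.Lib.Helper8.AutSp
open scoped MatrixGroups

variable {m : ℕ} {F : Type*} [Field F]

/-! ### the base change commutes with the field automorphisms -/

theorem oScal_map (ψ : F ≃+* F) (x : OI m) : ψ (oScal m F x) = oScal m F x := by
  rcases x with _ | i | i
  · exact map_one ψ
  · exact map_one ψ
  · exact map_ofNat ψ 2

theorem oD_map (h2 : (2 : F) ≠ 0) (ψ : F ≃+* F) :
    ((oD h2 m : GL (Fin (2 * m + 1)) F) : Matrix (Fin (2 * m + 1)) (Fin (2 * m + 1)) F).map ψ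
      = ((oD h2 m : GL (Fin (2 * m + 1)) F) : Matrix (Fin (2 * m + 1)) (Fin (2 * m + 1)) F) := by
  rw [oD_coe, Matrix.diagonal_map (map_zero ψ)]
  congr 1
  funext a
  exact oScal_map ψ _

theorem oD_inv_map (h2 : (2 : F) ≠ 0) (ψ : F ≃+* F) :
    (((oD h2 m)⁻¹ : GL (Fin (2 * m + 1)) F) :
        Matrix (Fin (2 * m + 1)) (Fin (2 * m + 1)) F).map ψ
      = (((oD h2 m)⁻¹ : GL (Fin (2 * m + 1)) F) :
        Matrix (Fin (2 * m + 1)) (Fin (2 * m + 1)) F) := by
  have e : (((oD h2 m)⁻¹ : GL (Fin (2 * m + 1)) F) :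
      Matrix (Fin (2 * m + 1)) (Fin (2 * m + 1)) F)
      = Matrix.diagonal fun a => (oScal m F ((oEquiv m).symm a))⁻¹ := rfl
  rw [e, Matrix.diagonal_map (map_zero ψ)]
  congr 1
  funext a
  show ψ ((oScal m F ((oEquiv m).symm a))⁻¹) = _
  rw [map_inv₀, oScal_map]

theorem oPhi_map (h2 : (2 : F) ≠ 0) (ψ : F ≃+* F) (M : GL (OI m) F) :
    oPhi h2 m (Matrix.GeneralLinearGroup.map (ψ : F →+* F) M)
      = Matrix.GeneralLinearGroup.map (ψ : F →+* F) (oPhi h2 m M) := by
  apply Units.ext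
  have hmap : ∀ {n : Type} [Fintype n] [DecidableEq n] (X : GL n F),
      ((Matrix.GeneralLinearGroup.map (ψ : F →+* F) X : GL n F) : Matrix n n F)
        = (X : Matrix n n F).map ψ := fun X => rfl
  rw [oPhi_coe, hmap, hmap, oPhi_coe, Matrix.map_mul, Matrix.map_mul, oD_map, oD_inv_map]
  rfl

/-! ### the identification of the model with `Ω` -/

/-- the model of `Ω` is isomorphic to `Ω(Q)`, `Q = x₀² + Σ xᵢ yᵢ` -/
noncomputable def eOm (h2 : (2 : F) ≠ 0) (m : ℕ) :
    Omm (2 * m + 1) F ≃* ↥(Cfsg.Omega F (Cfsg.quadFormOdd m F)) :=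
  ((MonoidHom.ofInjective (f := toO (2 * m + 1) F) toO_injective).trans
    (MulEquiv.subgroupCongr (range_toO (by omega)))).trans (commutatorEquiv (oIso h2 m)).symm

/-- the matrix of the image of an element of the model -/
theorem eOm_coe (h2 : (2 : F) ≠ 0) (g : Omm (2 * m + 1) F) :
    oPhi h2 m (((eOm h2 m g : ↥(Cfsg.Omega F (Cfsg.quadFormOdd m F))) :
      ↥(Cfsg.isometryGroup F (Cfsg.quadFormOdd m F))) : GL (OI m) F) = glo g := by
  have h1 : commutatorEquiv (oIso h2 m) (eOm h2 m g)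
      = (MulEquiv.subgroupCongr (range_toO (by omega)))
        (MonoidHom.ofInjective (f := toO (2 * m + 1) F) toO_injective g) := by
    unfold eOm
    rw [MulEquiv.trans_apply, MulEquiv.apply_symm_apply, MulEquiv.trans_apply]
  exact congrArg (fun c : ↥(commutator ↥(UH (2 * m + 1) F (RingHom.id F))) =>
    ((c : ↥(UH (2 * m + 1) F (RingHom.id F))) : GL (Fin (2 * m + 1)) F)) h1

/-- the projection of the model onto `PΩ(Q)` -/
noncomputable def fOm (h2 : (2 : F) ≠ 0) (m : ℕ) :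
    Omm (2 * m + 1) F →* Cfsg.POmega F (Cfsg.quadFormOdd m F) :=
  (QuotientGroup.mk' (Subgroup.center ↥(Cfsg.Omega F (Cfsg.quadFormOdd m F)))).comp
    (eOm h2 m).toMonoidHom

theorem fOm_apply (h2 : (2 : F) ≠ 0) (g : Omm (2 * m + 1) F) :
    fOm h2 m g = QuotientGroup.mk (eOm h2 m g) := rfl

theorem fOm_surjective (h2 : (2 : F) ≠ 0) : Function.Surjective (fOm h2 m) := by
  intro x
  obtain ⟨s, rfl⟩ := QuotientGroup.mk'_surjective _ x
  exact ⟨(eOm h2 m).symm s, by rw [fOm_apply, MulEquiv.apply_symm_apply]; rfl⟩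

theorem fOm_ker (h2 : (2 : F) ≠ 0) :
    (fOm h2 m).ker = Subgroup.center (Omm (2 * m + 1) F) := by
  ext g
  rw [MonoidHom.mem_ker, fOm_apply, QuotientGroup.eq_one_iff, ← map_center_eq (eOm h2 m)]
  constructor
  · rintro ⟨g', hg', e⟩
    have : g' = g := (eOm h2 m).injective e
    rw [← this]
    exact hg'
  · intro hg
    exact ⟨g, hg, rfl⟩

/-! ### the theorem -/

theorem two_ne_zero_of_odd [Fintype F] (hodd : Odd (Fintype.card F)) : (2 : F) ≠ 0 := by
  obtain ⟨p, hp⟩ := CharP.exists F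
  have hpp : p.Prime := CharP.char_is_prime F p
  intro h
  have h1 : ((2 : ℕ) : F) = 0 := by exact_mod_cast h
  have h3 : p ∣ 2 := (CharP.cast_eq_zero_iff F p 2).1 h1
  have hp2 : p = 2 := (Nat.prime_dvd_prime_iff_eq hpp Nat.prime_two).1 h3
  have h4 : p ∣ Fintype.card F := by
    have : ((Fintype.card F : ℕ) : F) = 0 := Nat.cast_card_eq_zero F
    exact (CharP.cast_eq_zero_iff F p _).1 this
  rw [hp2] at h4
  exact (Nat.not_even_iff_odd.2 hodd) (even_iff_two_dvd.2 h4)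

/-- **Every automorphism of `PΩ_{2m+1}(F)`, `m ≥ 3`, `|F|` odd, is induced by a semilinear
isometry of the quadratic form.** -/
theorem FacO_core [Fintype F] (hodd : Odd (Fintype.card F)) (hm : 3 ≤ m)
    (β : MulAut (Cfsg.POmega F (Cfsg.quadFormOdd m F))) :
    ∃ (g : GL (Unit ⊕ (Fin m ⊕ Fin m)) F) (σ : F ≃+* F),
      g ∈ Cfsg.isometryGroup F (Cfsg.quadFormOdd m F) ∧
      Cfsg.IsInducedBySemilinearPOmega (Cfsg.quadFormOdd m F) g σ β := by
  have h2 : (2 : F) ≠ 0 := two_ne_zero_of_odd hodd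
  obtain ⟨p, hp⟩ := CharP.exists F
  have : Fact p.Prime := ⟨CharP.char_is_prime F p⟩
  have C : OCtx (2 * m + 1) F := ⟨by omega, by omega, h2⟩
  obtain ⟨x, ψ, d, hd, H⟩ := C.aut_standard p (fOm h2 m) (fOm_surjective h2) (fOm_ker h2) β
  obtain ⟨x0, rfl⟩ := fOm_surjective h2 x
  set A : GL (Fin (2 * m + 1)) F := glo x0 * dgU d with hA
  have hAU : A ∈ UH (2 * m + 1) F (RingHom.id F) :=
    mul_mem (glo_mem_UH x0) (Cfsg.Agent.AutPSU.dgU_mem_UH hd)
  refine ⟨(oPhi h2 m).symm A, ψ, ?_, ?_⟩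
  · rw [oPhi_mem_iff h2, MulEquiv.apply_symm_apply]
    exact hAU
  · intro s s' hs
    set g : Omm (2 * m + 1) F := (eOm h2 m).symm s with hg
    obtain ⟨g', hg', hβ⟩ := H g
    have e1 : fOm h2 m g = QuotientGroup.mk s := by
      rw [fOm_apply, hg, MulEquiv.apply_symm_apply]
    rw [← e1, hβ, ← map_inv, ← map_mul, ← map_mul, fOm_apply]
    congr 1
    -- compare the matrices
    apply Subtype.ext
    apply Subtype.ext
    apply (oPhi h2 m).injective
    rw [eOm_coe, glo_mul, glo_mul, glo_inv, hg']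
    have hs' : (((s' : ↥(Cfsg.isometryGroup F (Cfsg.quadFormOdd m F))) : GL (OI m) F))
        = (oPhi h2 m).symm A
          * Matrix.GeneralLinearGroup.map (ψ : F →+* F)
            ((s : ↥(Cfsg.isometryGroup F (Cfsg.quadFormOdd m F))) : GL (OI m) F)
          * ((oPhi h2 m).symm A)⁻¹ := by
      apply Units.ext
      rw [hs]
      rfl
    rw [hs', map_mul, map_mul, map_inv, MulEquiv.apply_symm_apply, oPhi_map]
    have e2 : oPhi h2 m ((s : ↥(Cfsg.isometryGroup F (Cfsg.quadFormOdd m F))) : GL (OI m) F)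
        = glo g := by
      rw [← eOm_coe h2 g, hg, MulEquiv.apply_symm_apply]
    rw [e2, hA]
    group

end Cfsg.Agent.Lib.Helper8.AutOm
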