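import Cfsg.Agent.Lib.Helper8.AutOm.BNOm
import Cfsg.Agent.H9.SpB
import Mathlib

/-!
# `Ω_N(F)`, `N` odd: the split `(B, N)`-pair facts (helper8, after helper5's `AutSU.Facts1`)
-/

set_option autoImplicit false

namespace Cfsg.Agent.Lib.Helper8.AutOm

open Matrix Cfsg Cfsg.Agent.Lib.Helper5.GLBN Cfsg.Agent.Lib.Helper8.SpBN
open Cfsg.Agent.Lib.Helper8.Tw Cfsg.Agent.PSUT Cfsg.Agent.Lib.H7AutPSL
open Cfsg.Agent.Lib.Helper5.AutBN Cfsg.Agent.Lib.Helper8.AutSp Cfsg.Agent.Lib.Helper5.AutSU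
open scoped MatrixGroups

variable {N : ℕ} {F : Type*} [Field F] [Fintype F]

theorem mem_UUo_iff_UT {g : Omm N F} : g ∈ UUo N F ↔ glo g ∈ UT N F :=
  mem_UU_iff_UT (g := (g : SOm N F))

/-- `B` normalizes `U` -/
theorem UUo_normal : ∀ b ∈ BBo N F, ∀ u ∈ UUo N F, b * u * b⁻¹ ∈ UUo N F := by
  intro b hb u hu
  exact UU_normal (b : SOm N F) hb (u : SOm N F) hu

theorem isPGroup_UUo (p : ℕ) [Fact p.Prime] [CharP F p] : IsPGroup p ↥(UUo N F) := by
  have h := isPGroup_UT (N := N) (F := F) p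
  let f : ↥(UUo N F) →* ↥(UT N F) :=
    ((gloHom N F).comp (UUo N F).subtype).codRestrict (UT N F) (fun g => mem_UUo_iff_UT.1 g.2)
  have hf : Function.Injective f := by
    intro a b hab
    have h1 : glo (a : Omm N F) = glo (b : Omm N F) :=
      congrArg (fun x : ↥(UT N F) => (x : GL (Fin N) F)) hab
    exact Subtype.ext (glo_injective h1)
  exact h.of_injective f hf

/-- an element of `B` of `p`-power order is unitriangular -/
theorem mem_UUo_of_pow (p : ℕ) [Fact p.Prime] [CharP F p] {b : Omm N F} (hb : b ∈ BBo N F)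
    (k : ℕ) (h : b ^ p ^ k = 1) : b ∈ UUo N F := by
  rw [mem_UUo_iff_UT]
  apply mem_UT_of_pow p hb k
  have := congrArg glo h
  rw [glo_one] at this
  rw [← this]
  exact (map_pow (gloHom N F) b (p ^ k)).symm

/-- the diagonal part of an upper triangular orthogonal matrix -/
theorem OCtx.exists_torus (C : OCtx N F) {b : ↥(UH N F (RingHom.id F))}
    (hb : (b : GL (Fin N) F) ∈ upperTriangularGL N F) :
    ∃ t : ↥(UH N F (RingHom.id F)),
      IsMono ((t : GL (Fin N) F) : Matrix (Fin N) (Fin N) F) 1 ∧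
      (b : GL (Fin N) F) * (t : GL (Fin N) F)⁻¹ ∈ UT N F := by
  have hb' : (b : ↥C.T.G) ∈ C.T.BF := (C.T.mem_BF (g := b)).2 hb
  obtain ⟨t, ht, hu⟩ := C.T.exists_torus_decomp hb'
  exact ⟨t, C.T.mem_diagK_iff.1 ht, (C.T.mem_UF).1 hu⟩

/-- `B = T U` -/
theorem OCtx.exists_TU (C : OCtx N F) (b : Omm N F) (hb : b ∈ C.P.B) :
    ∃ t ∈ C.P.B ⊓ C.P.N, ∃ u ∈ UUo N F, b = t * u := by
  rw [C.P_B] at hb
  obtain ⟨t, htm, hu'⟩ := C.exists_torus (b := toO N F b) hb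
  -- `b t⁻¹` is unitriangular, so it lies in `Ω`, and then so does `t`
  set w : ↥(UH N F (RingHom.id F)) := toO N F b * t⁻¹ with hw
  have hwgl : (w : GL (Fin N) F) = glo b * (t : GL (Fin N) F)⁻¹ := rfl
  have hdu : ((w : GL (Fin N) F) : Matrix (Fin N) (Fin N) F).det = 1 := by
    rw [hwgl]
    exact det_of_isUpU ⟨(mem_upper.1 hu'.1), hu'.2⟩
  have hwN : w ∈ N1 N F (RingHom.id F) := mem_N1.2 hdu
  have hwU : (⟨w, hwN⟩ : SOm N F) ∈ UU N F (RingHom.id F) := mem_UU_iff_UT.2 hu'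
  have hwO : (⟨w, hwN⟩ : SOm N F) ∈ OmS N F := C.UU_le_OmS hwU
  set u0 : Omm N F := ⟨⟨w, hwN⟩, hwO⟩ with hu0
  have hu0U : u0 ∈ UUo N F := hwU
  set tS : Omm N F := u0⁻¹ * b with htS
  have htS' : toO N F tS = t := by
    rw [htS, map_mul, map_inv]
    show w⁻¹ * toO N F b = t
    rw [hw]
    group
  have hglo : glo tS = (t : GL (Fin N) F) := by
    rw [← toO_coe, htS']
  have htB1 : tS ∈ C.P.B := by
    rw [C.P_B, mem_BBo, hglo]
    exact mem_upper.1 (mem_upper_of_isMono_one htm)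
  have htB2 : tS ∈ C.P.N := by
    rw [C.mem_P_N, hglo]
    exact ⟨1, htm⟩
  have htB : tS ∈ C.P.B ⊓ C.P.N := ⟨htB1, htB2⟩
  have htB' : tS ∈ BBo N F := by
    rw [← C.P_B]
    exact htB.1
  refine ⟨tS, htB, tS⁻¹ * u0 * tS⁻¹⁻¹, UUo_normal _ (inv_mem htB') _ hu0U, ?_⟩
  rw [htS]
  group

/-- the normalizer of `U` is `B` -/
theorem OCtx.normalizer_UUo (C : OCtx N F) :
    Subgroup.normalizer (UUo N F : Set (Omm N F)) = C.P.B := by
  apply normalizer_eq_B C.P (UUo N F)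
  · intro b hb
    rw [C.P_B] at hb
    exact UUo_normal b hb
  · rw [C.P_B]
    exact UUo_le_BBo
  · exact C.exists_TU

/-- `U` is a Sylow subgroup -/
theorem OCtx.card_UUo (C : OCtx N F) (p : ℕ) [Fact p.Prime] [CharP F p] :
    Nat.card ↥(UUo N F) = p ^ (Nat.card (Omm N F)).factorization p := by
  apply Cfsg.Agent.H9.SpB.card_eq_of_normalizer p (UUo N F) (isPGroup_UUo p)
  intro x hx k hk
  rw [C.normalizer_UUo, C.P_B] at hx
  exact mem_UUo_of_pow p hx k hk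

theorem OCtx.index_UUo (C : OCtx N F) (p : ℕ) [hp : Fact p.Prime] [CharP F p] :
    ¬ p ∣ (UUo N F).index := by
  have h1 := Subgroup.card_mul_index (UUo N F)
  rw [C.card_UUo p] at h1
  have hpos : Nat.card (Omm N F) ≠ 0 := Nat.card_pos.ne'
  intro hdvd
  have h2 : p ^ ((Nat.card (Omm N F)).factorization p + 1) ∣ Nat.card (Omm N F) := by
    obtain ⟨d, hd⟩ := hdvd
    refine ⟨d, ?_⟩
    rw [pow_succ, mul_assoc, ← hd]
    exact h1.symm
  exact Nat.pow_succ_factorization_not_dvd hpos hp.out h2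

end Cfsg.Agent.Lib.Helper8.AutOm
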