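import Cfsg.Agent.Lib.Helper8.AutOm.FactsB
import Mathlib

/-!
# `Ω_N(F)`, `N` odd: the minimal parabolic subgroups (helper8, after helper5's `AutSU.Facts3`)

The block upper triangular subgroup `QQo j` is the minimal parabolic subgroup of the node `j`;
hence `Xmo j` is its intersection with the lower unitriangular group.
-/

set_option autoImplicit false

namespace Cfsg.Agent.Lib.Helper8.AutOm

open Matrix Cfsg Cfsg.Agent.Lib.Helper5.GLBN Cfsg.Agent.Lib.Helper8.SpBN
open Cfsg.Agent.Lib.Helper8.Tw Cfsg.Agent.PSUT Cfsg.Agent.Lib.H7AutPSL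
open Cfsg.Agent.Lib.Helper5.AutBN Cfsg.Agent.Lib.Helper8.AutSp Cfsg.Agent.Lib.Helper5.AutSU
open scoped MatrixGroups

variable {N : ℕ} {F : Type*} [Field F] [Fintype F] 

/-- the entries of a representative of a reflection -/
theorem OCtx.sN_apply_eq_zero_iff (C : OCtx N F) {i : ℕ} (hi : i < N / 2) (a b : Fin N) :
    ((glo (C.sN i) : GL (Fin N) F) : Matrix (Fin N) (Fin N) F) a b = 0 ↔ a ≠ rho N i b := by
  obtain ⟨t, ht, e⟩ := C.exists_glo_sN hi
  rw [e, Units.val_mul, ht.mul_apply, Equiv.Perm.one_apply, permGL_coe, pm_apply]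
  have h1 : (t : Matrix (Fin N) (Fin N) F) b b ≠ 0 := by
    have := ht.apply_ne_zero b
    rwa [Equiv.Perm.one_apply] at this
  constructor
  · intro h hab
    rw [if_pos hab, one_mul] at h
    exact h1 h
  · intro h
    rw [if_neg h, zero_mul]

/-- a representative of a reflection lies in the block upper triangular subgroup of another
node only if the nodes coincide -/
theorem OCtx.sN_mem_QQ_iff (C : OCtx N F) {i j : ℕ} (hi : i < N / 2) (hj : j < N / 2) :
    C.sN i ∈ QQo N F j ↔ i = j := by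
  rw [mem_QQo (by omega)]
  constructor
  · intro h
    by_contra hij
    obtain ⟨b, hb1, hb2⟩ := not_blk_rho hi hj hij
    have := h (rho N i b) b hb1 hb2
    rw [C.sN_apply_eq_zero_iff hi] at this
    exact this rfl
  · rintro rfl a b _ hn
    rw [C.sN_apply_eq_zero_iff hi]
    rintro rfl
    exact hn (blk_rho_self hi b)

/-- the block upper triangular subgroups are the minimal parabolic subgroups -/
theorem OCtx.QQ_eq_parabolic (C : OCtx N F) {j : ℕ} (hj : j < N / 2) :
    QQo N F j = C.P.parabolic {C.sN j} := by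
  have h := Cfsg.Agent.Lib.Helper5.BN.eq_parabolic_of_le C.P (QQo N F j)
    (by rw [C.P_B]; exact BBo_le_QQo j)
  have e : {s | s ∈ C.P.S ∧ s ∈ QQo N F j} = ({C.sN j} : Set (Omm N F)) := by
    ext s
    rw [C.P_S]
    constructor
    · rintro ⟨⟨i, hi, rfl⟩, hs⟩
      rw [(C.sN_mem_QQ_iff hi hj).1 hs]
      rfl
    · intro hs
      rw [Set.mem_singleton_iff] at hs
      rw [hs]
      exact ⟨⟨j, hj, rfl⟩, (C.sN_mem_QQ_iff hj hj).2 rfl⟩
  rw [e] at h
  exact h

/-- the negative root subgroups are the intersections of the minimal parabolic subgroups with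
the lower unitriangular group -/
theorem OCtx.Xm_eq (C : OCtx N F) {j : ℕ} (hj : j < N / 2) :
    Xmo N F j = C.P.parabolic {C.sN j} ⊓ VVo N F := by
  rw [← C.QQ_eq_parabolic hj]
  rfl

/-- the representatives of the reflections are distinct -/
theorem OCtx.sN_injective (C : OCtx N F) :
    Function.Injective (fun i : Fin (N / 2) => C.sN (i : ℕ)) := by
  intro i j hij
  have hij' : C.sN (i : ℕ) = C.sN (j : ℕ) := hij
  apply Fin.ext
  apply (C.sN_mem_QQ_iff i.2 j.2).1
  rw [hij']
  exact (C.sN_mem_QQ_iff j.2 j.2).2 rfl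

theorem OCtx.range_sN (C : OCtx N F) :
    Set.range (fun i : Fin (N / 2) => C.sN (i : ℕ)) = C.P.S := by
  rw [C.P_S]
  ext s
  constructor
  · rintro ⟨i, rfl⟩
    exact ⟨i, i.2, rfl⟩
  · rintro ⟨j, hj, rfl⟩
    exact ⟨⟨j, hj⟩, rfl⟩

end Cfsg.Agent.Lib.Helper8.AutOm
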