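import Cfsg.Agent.Lib.Helper8.AutOm.FactsC
import Cfsg.Agent.Lib.Helper5.AutSU.Facts7
import Mathlib

/-!
# `Ω_N(F)`, `N` odd: the opposite Sylow subgroups (helper8, after helper5's `AutSU.Facts4`)

A conjugate of `U` meeting `B` trivially is a conjugate of `V` under `B`.
-/

set_option autoImplicit false

namespace Cfsg.Agent.Lib.Helper8.AutOm

open Matrix Cfsg Cfsg.Agent.Lib.Helper5.GLBN Cfsg.Agent.Lib.Helper8.SpBN
open Cfsg.Agent.Lib.Helper8.Tw Cfsg.Agent.PSUT Cfsg.Agent.Lib.H7AutPSL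
open Cfsg.Agent.Lib.Helper5.AutBN Cfsg.Agent.Lib.Helper8.AutSp Cfsg.Agent.Lib.Helper5.AutSU Cfsg.Agent.Lib.Helper5.BN
open scoped MatrixGroups

variable {N : ℕ} {F : Type*} [Field F] [Fintype F] 

/-- the permutation of a monomial unitary matrix commutes with the reversal -/
theorem OCtx.perm_rev (C : OCtx N F) {n : Omm N F} {π : Equiv.Perm (Fin N)}
    (hπ : IsMono ((glo n : GL (Fin N) F) : Matrix (Fin N) (Fin N) F) π) (b : Fin N) :
    π b.rev = (π b).rev := by
  have h := C.T.revC_of_fixed (ν := glo n) (glo_mem_UH n) hπ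
  exact (revC_eq_self_iff π).1 h b

/-- an element of `U` conjugated into `B` by a monomial matrix `n` with `n U n⁻¹ ∩ B = 1` is
trivial -/
theorem OCtx.eq_one_of_conj (C : OCtx N F) {n : Omm N F} {π : Equiv.Perm (Fin N)}
    (hπ : IsMono ((glo n : GL (Fin N) F) : Matrix (Fin N) (Fin N) F) π)
    (h : cj n (UUo N F) ⊓ C.P.B = ⊥) (r : Omm N F) (hrU : r ∈ UUo N F)
    (hr : ∀ i j, j < i →
      ((glo r : GL (Fin N) F) : Matrix (Fin N) (Fin N) F) (π⁻¹ i) (π⁻¹ j) = 0) : r = 1 := by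
  have hy1 : n * r * n⁻¹ ∈ cj n (UUo N F) := by
    rw [mem_cj]
    have e : n⁻¹ * (n * r * n⁻¹) * n = r := by group
    rw [e]
    exact hrU
  have hy2 : n * r * n⁻¹ ∈ C.P.B := by
    rw [C.P_B]
    show glo (n * r * n⁻¹) ∈ upperTriangularGL N F
    have e : glo (n * r * n⁻¹) = ((glo n)⁻¹)⁻¹ * glo r * (glo n)⁻¹ := by
      rw [glo_mul, glo_mul, glo_inv, inv_inv]
    rw [e, mono_conj_mem_upper_iff hπ.inv]
    exact hr
  have hy : n * r * n⁻¹ ∈ cj n (UUo N F) ⊓ C.P.B := ⟨hy1, hy2⟩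
  rw [h, Subgroup.mem_bot] at hy
  have e : r = n⁻¹ * (n * r * n⁻¹) * n := by group
  rw [e, hy]
  group

/-- an element of `Ω` from an upper unitriangular orthogonal matrix -/
def OCtx.mkU (C : OCtx N F) (g : GL (Fin N) F) (hU : g ∈ UH N F (RingHom.id F))
    (hup : IsUpU (g : Matrix (Fin N) (Fin N) F)) : Omm N F :=
  ⟨mk1 g hU (det_of_isUpU hup), C.UU_le_OmS (mem_UU.2 hup)⟩

theorem OCtx.glo_mkU (C : OCtx N F) (g : GL (Fin N) F) (hU : g ∈ UH N F (RingHom.id F))
    (hup : IsUpU (g : Matrix (Fin N) (Fin N) F)) : glo (C.mkU g hU hup) = g := rfl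

theorem OCtx.mkU_mem (C : OCtx N F) (g : GL (Fin N) F) (hU : g ∈ UH N F (RingHom.id F))
    (hup : IsUpU (g : Matrix (Fin N) (Fin N) F)) : C.mkU g hU hup ∈ UUo N F := hup

/-- the position next to the middle one is not inverted -/
theorem OCtx.not_lt_mid (C : OCtx N F) {n : Omm N F} {π : Equiv.Perm (Fin N)}
    (hπ : IsMono ((glo n : GL (Fin N) F) : Matrix (Fin N) (Fin N) F) π)
    (h : cj n (UUo N F) ⊓ C.P.B = ⊥) (k m : Fin N) (hkm : k < m) (hm : m.rev = m) :
    ¬ π k < π m := by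
  intro hlt
  have hmk : m < k.rev := by
    have := Fin.rev_lt_rev.2 hkm
    rwa [hm] at this
  have hπm : (π m).rev = π m := by rw [← C.perm_rev hπ, hm]
  have hlt2 : π m < π k.rev := by
    rw [C.perm_rev hπ, ← hπm, Fin.rev_lt_rev]
    exact hlt
  have hb : (-2 : F) + (RingHom.id F) (-2) + 2 * (RingHom.id F) 2 = 0 := by
    rw [RingHom.id_apply, RingHom.id_apply]; ring
  have hU : xO (RingHom.id F) k m (ne_of_lt hkm) (ne_of_lt hmk) (ne_of_lt (lt_trans hkm hmk)) 2 (-2)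
      ∈ UH N F (RingHom.id F) :=
    xO_mem_UH (RingHom.id F) (fun _ => rfl) k m _ _ _ hm 2 (-2) hb
  set r : Omm N F := C.mkU _ hU (xO_isUpU (RingHom.id F) hkm hmk 2 (-2)) with hr
  have hrU : r ∈ UUo N F := C.mkU_mem _ _ _
  have hr1 : r = 1 := by
    apply C.eq_one_of_conj hπ h r hrU
    intro i j hji
    show ((xO (RingHom.id F) k m (ne_of_lt hkm) (ne_of_lt hmk) (ne_of_lt (lt_trans hkm hmk)) 2 (-2)
      : GL (Fin N) F) : Matrix (Fin N) (Fin N) F) (π⁻¹ i) (π⁻¹ j) = 0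
    rw [xO_apply, if_neg, if_neg, if_neg, if_neg, add_zero, add_zero, add_zero]
    · rintro ⟨e1, e2⟩
      have hi : i = π m := by rw [e1]; simp
      have hj : j = π k.rev := by rw [e2]; simp
      rw [hi, hj] at hji
      exact absurd hlt2 (not_lt.2 hji.le)
    · rintro ⟨e1, e2⟩
      have hi : i = π k := by rw [e1]; simp
      have hj : j = π m := by rw [e2]; simp
      rw [hi, hj] at hji
      exact absurd hlt (not_lt.2 hji.le)
    · rintro ⟨e1, e2⟩
      have hi : i = π k := by rw [e1]; simp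
      have hj : j = π k.rev := by rw [e2]; simp
      rw [hi, hj] at hji
      exact absurd (lt_trans hlt hlt2) (not_lt.2 hji.le)
    · intro e
      exact (ne_of_gt hji) (π⁻¹.injective e)
  have h4 := congrArg (fun g : Omm N F =>
    ((glo g : GL (Fin N) F) : Matrix (Fin N) (Fin N) F) k m) hr1
  simp only [glo_one, Units.val_one] at h4
  rw [Matrix.one_apply_ne (ne_of_lt hkm)] at h4
  have h5 : ((glo r : GL (Fin N) F) : Matrix (Fin N) (Fin N) F) k m = 2 := by
    show ((xO (RingHom.id F) k m (ne_of_lt hkm) (ne_of_lt hmk) (ne_of_lt (lt_trans hkm hmk)) 2 (-2)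
      : GL (Fin N) F) : Matrix (Fin N) (Fin N) F) k m = 2
    rw [xO_apply, if_neg (ne_of_lt hkm), if_neg, if_pos ⟨rfl, rfl⟩, if_neg, zero_add, zero_add,
      add_zero]
    · rintro ⟨e1, -⟩
      exact (ne_of_lt hkm) e1.symm
    · rintro ⟨-, e2⟩
      exact (ne_of_lt hmk) e2.symm
  rw [h5] at h4
  exact C.h2 h4

/-- a short root position which is not inverted -/
theorem OCtx.not_lt_short (C : OCtx N F) {n : Omm N F} {π : Equiv.Perm (Fin N)}
    (hπ : IsMono ((glo n : GL (Fin N) F) : Matrix (Fin N) (Fin N) F) π)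
    (h : cj n (UUo N F) ⊓ C.P.B = ⊥) (a b : Fin N) (hab : a < b) (h1 : a ≠ b.rev)
    (h2 : a ≠ a.rev) (h3 : b ≠ b.rev) : ¬ π a < π b := by
  intro hlt
  have hU : xS (RingHom.id F) a b (ne_of_lt hab) 1 ∈ UH N F (RingHom.id F) :=
    xS_mem_UH (fun _ => rfl) a b _ h1 h2 h3 1
  set r : Omm N F := C.mkU (xS (RingHom.id F) a b (ne_of_lt hab) 1) hU (xS_isUpU hab 1) with hr
  have hrU : r ∈ UUo N F := C.mkU_mem _ _ _
  have hr1 : r = 1 := by
    apply C.eq_one_of_conj hπ h r hrU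
    intro i j hji
    show ((xS (RingHom.id F) a b (ne_of_lt hab) 1 : GL (Fin N) F) : Matrix (Fin N) (Fin N) F)
      (π⁻¹ i) (π⁻¹ j) = 0
    rw [xS_apply (RingHom.id F) a b _ h3, if_neg, if_neg, if_neg, add_zero, add_zero]
    · rintro ⟨e1, e2⟩
      have hi : i = (π b).rev := by rw [← C.perm_rev hπ, e1]; simp
      have hj : j = (π a).rev := by rw [← C.perm_rev hπ, e2]; simp
      rw [hi, hj, Fin.rev_lt_rev] at hji
      exact absurd hlt (not_lt.2 hji.le)
    · rintro ⟨e1, e2⟩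
      have hi : i = π a := by rw [e1]; simp
      have hj : j = π b := by rw [e2]; simp
      rw [hi, hj] at hji
      exact absurd hlt (not_lt.2 hji.le)
    · intro e
      exact (ne_of_gt hji) (π⁻¹.injective e)
  have h4 := congrArg (fun g : Omm N F =>
    ((glo g : GL (Fin N) F) : Matrix (Fin N) (Fin N) F) a b) hr1
  simp only [glo_one, Units.val_one] at h4
  rw [Matrix.one_apply_ne (ne_of_lt hab)] at h4
  have h5 : ((glo r : GL (Fin N) F) : Matrix (Fin N) (Fin N) F) a b = 1 := by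
    show ((xS (RingHom.id F) a b (ne_of_lt hab) 1 : GL (Fin N) F) : Matrix (Fin N) (Fin N) F) a b = 1
    rw [xS_apply (RingHom.id F) a b _ h3, if_neg (ne_of_lt hab), if_pos ⟨rfl, rfl⟩, if_neg, zero_add, add_zero]
    rintro ⟨e1, -⟩
    exact h1 e1.symm
  rw [h5] at h4
  exact one_ne_zero h4

/-- a monomial matrix `n` with `n U n⁻¹ ∩ B = 1` has the permutation of the longest element -/
theorem OCtx.perm_eq_rev (C : OCtx N F) {n : Omm N F} {π : Equiv.Perm (Fin N)}
    (hπ : IsMono ((glo n : GL (Fin N) F) : Matrix (Fin N) (Fin N) F) π)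
    (h : cj n (UUo N F) ⊓ C.P.B = ⊥) : π = Fin.revPerm := by
  by_contra hne
  have hτ : (Fin.revPerm : Equiv.Perm (Fin N)) * π ≠ 1 := by
    intro e
    apply hne
    have : π = (Fin.revPerm : Equiv.Perm (Fin N))⁻¹ := eq_inv_of_mul_eq_one_right e
    rw [this, revPerm_inv']
  obtain ⟨k, k', hk, hdesc⟩ := exists_adj_descent _ hτ
  rw [Equiv.Perm.mul_apply, Equiv.Perm.mul_apply, Fin.revPerm_apply, Fin.revPerm_apply,
    Fin.rev_lt_rev] at hdesc
  have hkk' : k < k' := by rw [Fin.lt_def]; omega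
  have hk2 := k.2
  have hk2' := k'.2
  have hv : ∀ x : Fin N, ((x.rev : Fin N) : ℕ) = N - (x + 1) := fun x => Fin.val_rev x
  have hodd := C.hodd
  have c1 : ¬ (k : ℕ) + (k' : ℕ) + 1 = N := by omega
  by_cases c2 : 2 * (k' : ℕ) + 1 = N
  · -- `k'` is the middle position
    have e : k'.rev = k' := by
      apply Fin.ext
      rw [hv]
      omega
    exact C.not_lt_mid hπ h k k' hkk' e hdesc
  by_cases c3 : 2 * (k : ℕ) + 1 = N
  · -- `k` is the middle position
    have e : k.rev = k := by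
      apply Fin.ext
      rw [hv]
      omega
    have hlt : k'.rev < k := by
      rw [← e, Fin.rev_lt_rev]
      exact hkk'
    apply C.not_lt_mid hπ h k'.rev k hlt e
    rw [C.perm_rev hπ]
    have h1 : (π k).rev = π k := by rw [← C.perm_rev hπ, e]
    rw [← h1, Fin.rev_lt_rev]
    exact hdesc
  · apply C.not_lt_short hπ h k k' hkk' _ _ _ hdesc
    · intro e
      have := congrArg Fin.val e
      rw [hv] at this
      omega
    · intro e
      have := congrArg Fin.val e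
      rw [hv] at this
      omega
    · intro e
      have := congrArg Fin.val e
      rw [hv] at this
      omega

/-- a conjugate of `U` meeting `B` trivially is a conjugate of `V` under `B` -/
theorem OCtx.hopp (C : OCtx N F) (g : Omm N F) (hg : cj g (UUo N F) ⊓ C.P.B = ⊥) :
    ∃ b ∈ C.P.B, cj g (UUo N F) = cj b (VVo N F) := by
  obtain ⟨n, hn⟩ := exists_N_mem_D C.P g
  rw [mem_D] at hn
  obtain ⟨b1, hb1, b2, hb2, rfl⟩ := hn
  have hnorm : ∀ b ∈ C.P.B, cj b (UUo N F) = UUo N F := by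
    intro b hb
    apply cj_of_mem_normalizer
    rw [C.normalizer_UUo]
    exact hb
  have e : cj (b1 * (n : Omm N F) * b2) (UUo N F)
      = cj b1 (cj (n : Omm N F) (UUo N F)) := by
    rw [cj_mul, ← cj_mul (b1 * (n : Omm N F)) b2, hnorm b2 hb2]
  rw [e] at hg
  have hB1 : cj b1 C.P.B = C.P.B := cj_of_mem_normalizer (Subgroup.le_normalizer hb1)
  have h1 : cj (n : Omm N F) (UUo N F) ⊓ C.P.B = ⊥ := by
    apply eq_bot_of_cj_eq_bot (g := b1)
    rw [cj_inf, hB1]
    exact hg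
  obtain ⟨π, hπ⟩ := mem_monoN.1 (C.mem_P_N.1 n.2)
  have hπr := C.perm_eq_rev hπ h1
  set t : Omm N F := (n : Omm N F) * C.n0⁻¹ with ht
  have htm : IsMono ((glo t : GL (Fin N) F) : Matrix (Fin N) (Fin N) F) 1 := by
    rw [ht, glo_mul, glo_inv, Units.val_mul]
    have := hπ.mul C.isMono_n0.inv
    rw [hπr, revPerm_inv', revPerm_mul_self] at this
    exact this
  have htB : t ∈ C.P.B := by
    rw [C.P_B, mem_BBo]
    exact mem_upper.1 (mem_upper_of_isMono_one htm)
  have hn : (n : Omm N F) = t * C.n0 := by rw [ht]; group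
  refine ⟨b1 * t, mul_mem hb1 htB, ?_⟩
  rw [e, hn, ← cj_mul t C.n0, C.cj_n0_UUo, cj_mul]

end Cfsg.Agent.Lib.Helper8.AutOm
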