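import Cfsg.Agent.Lib.Helper8.AutOm.FactsD
import Cfsg.Agent.Lib.Helper5.AutSU.Param
import Mathlib

/-!
# `Ω_N(F)`, `N` odd: non-commuting root elements (helper8, after helper5's `AutSU.Facts6/7`)
-/

set_option autoImplicit false

namespace Cfsg.Agent.Lib.Helper8.AutOm

open Matrix Cfsg Cfsg.Agent.Lib.Helper5.GLBN Cfsg.Agent.Lib.Helper8.SpBN
open Cfsg.Agent.Lib.Helper8.Tw Cfsg.Agent.PSUT Cfsg.Agent.Lib.H7AutPSL
open Cfsg.Agent.Lib.Helper5.AutBN Cfsg.Agent.Lib.Helper8.AutSp Cfsg.Agent.Lib.Helper5.AutSU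
open scoped MatrixGroups

section grp

variable {N : ℕ} {F : Type*} [Field F] [Fintype F] 

/-- the central elements are diagonal -/
theorem OCtx.center_offdiag (C : OCtx N F) {z : Omm N F}
    (hz : z ∈ Subgroup.center (Omm N F)) (a b : Fin N) (hab : a ≠ b) :
    ((glo z : GL (Fin N) F) : Matrix (Fin N) (Fin N) F) a b = 0 := by
  have hB : z ∈ BBo N F := by
    rw [← C.P_B]
    exact C.center_le_B hz
  have hlow : ∀ a b : Fin N, b < a →
      ((glo z : GL (Fin N) F) : Matrix (Fin N) (Fin N) F) a b = 0 := mem_BBo.1 hB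
  rcases lt_or_gt_of_ne hab with h | h
  · have e : C.n0⁻¹ * z * C.n0 = z := by
      rw [mul_assoc, ← Subgroup.mem_center_iff.1 hz C.n0, ← mul_assoc, inv_mul_cancel, one_mul]
    have h1 := (C.n0_conj_eq_zero_iff z a b).2 (hlow a.rev b.rev (Fin.rev_lt_rev.2 h))
    rwa [e] at h1
  · exact hlow a b h

/-- two elements with distinct images in the central quotient, from their entries -/
theorem OCtx.map_ne_of_entries (C : OCtx N F) {Q : Type*} [Group Q] (f : Omm N F →* Q)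
    (hker : f.ker = Subgroup.center (Omm N F)) (u v : Omm N F) (a b : Fin N)
    (h1 : ((glo u : GL (Fin N) F) : Matrix (Fin N) (Fin N) F) a b
      = ((glo v : GL (Fin N) F) : Matrix (Fin N) (Fin N) F) a b)
    (h2 : ((glo v : GL (Fin N) F) : Matrix (Fin N) (Fin N) F) a b ≠ 0)
    (h3 : ((glo u : GL (Fin N) F) : Matrix (Fin N) (Fin N) F) a a
      ≠ ((glo v : GL (Fin N) F) : Matrix (Fin N) (Fin N) F) a a) : f u ≠ f v := by
  intro h
  have hz : u * v⁻¹ ∈ Subgroup.center (Omm N F) := by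
    rw [← hker, MonoidHom.mem_ker, map_mul, map_inv, h, mul_inv_cancel]
  have e : glo u = glo (u * v⁻¹) * glo v := by rw [← glo_mul, inv_mul_cancel_right]
  have key : ∀ k, ((glo u : GL (Fin N) F) : Matrix (Fin N) (Fin N) F) a k
      = ((glo (u * v⁻¹) : GL (Fin N) F) : Matrix (Fin N) (Fin N) F) a a
        * ((glo v : GL (Fin N) F) : Matrix (Fin N) (Fin N) F) a k := by
    intro k
    have e' : ((glo u : GL (Fin N) F) : Matrix (Fin N) (Fin N) F)
        = ((glo (u * v⁻¹) : GL (Fin N) F) : Matrix (Fin N) (Fin N) F)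
          * ((glo v : GL (Fin N) F) : Matrix (Fin N) (Fin N) F) := by
      rw [← Units.val_mul, ← e]
    rw [e', Matrix.mul_apply, Finset.sum_eq_single a]
    · intro j _ hj
      rw [C.center_offdiag hz a j (Ne.symm hj), zero_mul]
    · intro hh
      exact absurd (Finset.mem_univ _) hh
  have hζ : ((glo (u * v⁻¹) : GL (Fin N) F) : Matrix (Fin N) (Fin N) F) a a = 1 := by
    have h4 := key b
    rw [h1] at h4
    have h5 : 1 * ((glo v : GL (Fin N) F) : Matrix (Fin N) (Fin N) F) a b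
        = ((glo (u * v⁻¹) : GL (Fin N) F) : Matrix (Fin N) (Fin N) F) a a
          * ((glo v : GL (Fin N) F) : Matrix (Fin N) (Fin N) F) a b := by
      rw [one_mul]
      exact h4
    exact (mul_right_cancel₀ h2 h5).symm
  apply h3
  rw [key a, hζ, one_mul]

/-- the central quotient map is injective on `U` -/
theorem OCtx.f_inj_UUo (C : OCtx N F) {Q : Type*} [Group Q] (f : Omm N F →* Q)
    (hker : f.ker = Subgroup.center (Omm N F)) {u v : Omm N F} (hu : u ∈ UUo N F)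
    (hv : v ∈ UUo N F) (h : f u = f v) : u = v := by
  have h1 : u * v⁻¹ ∈ UUo N F ⊓ Subgroup.center (Omm N F) := by
    refine Subgroup.mem_inf.2 ⟨mul_mem hu (inv_mem hv), ?_⟩
    rw [← hker, MonoidHom.mem_ker, map_mul, map_inv, h, mul_inv_cancel]
  rw [C.UUo_inf_center, Subgroup.mem_bot] at h1
  exact mul_inv_eq_one.1 h1

/-- two elements with distinct images in the central quotient, from their entries in one row -/
theorem OCtx.map_ne_of_row (C : OCtx N F) {Q : Type*} [Group Q] (f : Omm N F →* Q)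
    (hker : f.ker = Subgroup.center (Omm N F)) (u v : Omm N F) (a b c : Fin N)
    (h1 : ((glo u : GL (Fin N) F) : Matrix (Fin N) (Fin N) F) a b
      = ((glo v : GL (Fin N) F) : Matrix (Fin N) (Fin N) F) a b)
    (h2 : ((glo v : GL (Fin N) F) : Matrix (Fin N) (Fin N) F) a b ≠ 0)
    (h3 : ((glo u : GL (Fin N) F) : Matrix (Fin N) (Fin N) F) a c
      ≠ ((glo v : GL (Fin N) F) : Matrix (Fin N) (Fin N) F) a c) : f u ≠ f v := by
  intro h
  have hz : u * v⁻¹ ∈ Subgroup.center (Omm N F) := by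
    rw [← hker, MonoidHom.mem_ker, map_mul, map_inv, h, mul_inv_cancel]
  have e : glo u = glo (u * v⁻¹) * glo v := by rw [← glo_mul, inv_mul_cancel_right]
  have key : ∀ k, ((glo u : GL (Fin N) F) : Matrix (Fin N) (Fin N) F) a k
      = ((glo (u * v⁻¹) : GL (Fin N) F) : Matrix (Fin N) (Fin N) F) a a
        * ((glo v : GL (Fin N) F) : Matrix (Fin N) (Fin N) F) a k := by
    intro k
    have e' : ((glo u : GL (Fin N) F) : Matrix (Fin N) (Fin N) F)
        = ((glo (u * v⁻¹) : GL (Fin N) F) : Matrix (Fin N) (Fin N) F)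
          * ((glo v : GL (Fin N) F) : Matrix (Fin N) (Fin N) F) := by
      rw [← Units.val_mul, ← e]
    rw [e', Matrix.mul_apply, Finset.sum_eq_single a]
    · intro j _ hj
      rw [C.center_offdiag hz a j (Ne.symm hj), zero_mul]
    · intro hh
      exact absurd (Finset.mem_univ _) hh
  have hζ : ((glo (u * v⁻¹) : GL (Fin N) F) : Matrix (Fin N) (Fin N) F) a a = 1 := by
    have h4 := key b
    rw [h1] at h4
    have h5 : 1 * ((glo v : GL (Fin N) F) : Matrix (Fin N) (Fin N) F) a b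
        = ((glo (u * v⁻¹) : GL (Fin N) F) : Matrix (Fin N) (Fin N) F) a a
          * ((glo v : GL (Fin N) F) : Matrix (Fin N) (Fin N) F) a b := by
      rw [one_mul]
      exact h4
    exact (mul_right_cancel₀ h2 h5).symm
  apply h3
  rw [key c, hζ, one_mul]

/-! ### the root elements, in `Ω` -/

omit [Fintype F] in
theorem idinv : ∀ x : F, (RingHom.id F) ((RingHom.id F) x) = x := fun _ => rfl

/-- the positive root elements of a short node, in `Ω` -/
def OCtx.xpSo (C : OCtx N F) (j : ℕ) (hj : 2 * j + 4 ≤ N) (c : F) : Omm N F :=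
  ⟨xpS idinv j hj c, C.Xp_le_OmS j (xpS_mem_Xp idinv j hj c)⟩

/-- the negative root elements of a short node, in `Ω` -/
def OCtx.xmSo (C : OCtx N F) (j : ℕ) (hj : 2 * j + 4 ≤ N) (c : F) : Omm N F :=
  ⟨xmS idinv j hj c, C.Xm_le_OmS j (xmS_mem_Xm idinv j hj c)⟩

theorem OCtx.glo_xpSo (C : OCtx N F) (j : ℕ) (hj : 2 * j + 4 ≤ N) (c : F) :
    glo (C.xpSo j hj c) = xS (RingHom.id F) (⟨j, by omega⟩ : Fin N) ⟨j + 1, by omega⟩
      (fin_ne (by simp)) c := rfl

theorem OCtx.glo_xmSo (C : OCtx N F) (j : ℕ) (hj : 2 * j + 4 ≤ N) (c : F) :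
    glo (C.xmSo j hj c) = xS (RingHom.id F) (⟨j + 1, by omega⟩ : Fin N) ⟨j, by omega⟩
      (fin_ne (by simp)) c := rfl

theorem OCtx.xpSo_mem (C : OCtx N F) (j : ℕ) (hj : 2 * j + 4 ≤ N) (c : F) :
    C.xpSo j hj c ∈ Xpo N F j := xpS_mem_Xp idinv j hj c

theorem OCtx.xmSo_mem (C : OCtx N F) (j : ℕ) (hj : 2 * j + 4 ≤ N) (c : F) :
    C.xmSo j hj c ∈ Xmo N F j := xmS_mem_Xm idinv j hj c

/-- the positive root elements of the last node, in `Ω` -/
def OCtx.xpOo (C : OCtx N F) (j : ℕ) (hj : 2 * j + 3 = N) (a b : F)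
    (hb : b + (RingHom.id F) b + a * (RingHom.id F) a = 0) : Omm N F :=
  ⟨xpO idinv j hj a b hb, C.Xp_le_OmS j (xpO_mem_Xp idinv j hj a b hb)⟩

/-- the negative root elements of the last node, in `Ω` -/
def OCtx.xmOo (C : OCtx N F) (j : ℕ) (hj : 2 * j + 3 = N) (a b : F)
    (hb : b + (RingHom.id F) b + a * (RingHom.id F) a = 0) : Omm N F :=
  ⟨xmO idinv j hj a b hb, C.Xm_le_OmS j (xmO_mem_Xm idinv j hj a b hb)⟩

theorem OCtx.glo_xpOo (C : OCtx N F) (j : ℕ) (hj : 2 * j + 3 = N) (a b : F)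
    (hb : b + (RingHom.id F) b + a * (RingHom.id F) a = 0) :
    glo (C.xpOo j hj a b hb) = xO (RingHom.id F) (⟨j, by omega⟩ : Fin N) ⟨j + 1, by omega⟩
      (fin_ne (by simp)) (fin_ne (by rw [val_rev_mk]; simp only; omega))
      (fin_ne (by rw [val_rev_mk]; simp only; omega)) a b := rfl

theorem OCtx.glo_xmOo (C : OCtx N F) (j : ℕ) (hj : 2 * j + 3 = N) (a b : F)
    (hb : b + (RingHom.id F) b + a * (RingHom.id F) a = 0) :
    glo (C.xmOo j hj a b hb) = xO (RingHom.id F) (⟨j + 2, by omega⟩ : Fin N) ⟨j + 1, by omega⟩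
      (fin_ne (by simp)) (fin_ne (by rw [val_rev_mk]; simp only; omega))
      (fin_ne (by rw [val_rev_mk]; simp only; omega)) a b := rfl

theorem OCtx.xpOo_mem (C : OCtx N F) (j : ℕ) (hj : 2 * j + 3 = N) (a b : F)
    (hb : b + (RingHom.id F) b + a * (RingHom.id F) a = 0) :
    C.xpOo j hj a b hb ∈ Xpo N F j := xpO_mem_Xp idinv j hj a b hb

theorem OCtx.xmOo_mem (C : OCtx N F) (j : ℕ) (hj : 2 * j + 3 = N) (a b : F)
    (hb : b + (RingHom.id F) b + a * (RingHom.id F) a = 0) :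
    C.xmOo j hj a b hb ∈ Xmo N F j := xmO_mem_Xm idinv j hj a b hb

omit [Fintype F] in
theorem two_neg_two : (-2 : F) + (RingHom.id F) (-2) + 2 * (RingHom.id F) 2 = 0 := by
  rw [RingHom.id_apply, RingHom.id_apply]; ring

omit [Fintype F] in
theorem xO_mul_apply_other (φ : F →+* F) (k m : Fin N) (hkm : k ≠ m) (hmk : m ≠ k.rev)
    (hk : k ≠ k.rev) (a b : F) (M : Matrix (Fin N) (Fin N) F) (i j : Fin N) (hi : i ≠ k)
    (hi' : i ≠ m) :
    (((xO φ k m hkm hmk hk a b : GL (Fin N) F) : Matrix (Fin N) (Fin N) F) * M) i j = M i j := by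
  unfold xO
  rw [Units.val_mul, Units.val_mul, Matrix.mul_assoc, Matrix.mul_assoc]
  simp only [tv_mul_apply, if_neg hi, if_neg hi', add_zero]

/-- opposite root subgroups of a node do not commute modulo the centre -/
theorem OCtx.hncomm (C : OCtx N F) {Q : Type*} [Group Q] (f : Omm N F →* Q)
    (hker : f.ker = Subgroup.center (Omm N F)) {j : ℕ} (hj : j < N / 2) :
    ∃ x ∈ Xpo N F j, ∃ y ∈ Xmo N F j, f (x * y) ≠ f (y * x) := by
  have hodd := C.hodd
  by_cases hs : 2 * j + 4 ≤ N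
  · refine ⟨C.xpSo j hs 1, C.xpSo_mem j hs 1, C.xmSo j hs 1, C.xmSo_mem j hs 1, ?_⟩
    obtain ⟨e1, e2, e3, e4⟩ := xS_xS_opp (RingHom.id F) (⟨j, by omega⟩ : Fin N) ⟨j + 1, by omega⟩
      (fin_ne (by simp)) (fin_ne (by rw [val_rev_mk]; simp only; omega))
      (fin_ne (by rw [val_rev_mk]; simp only; omega))
      (fin_ne (by rw [val_rev_mk]; simp only; omega)) 1 1
    apply C.map_ne_of_entries f hker _ _ (⟨j, by omega⟩ : Fin N) ⟨j + 1, by omega⟩
    · rw [glo_mul, glo_mul, C.glo_xpSo, C.glo_xmSo, e1, e2]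
    · rw [glo_mul, C.glo_xpSo, C.glo_xmSo, e2]
      exact one_ne_zero
    · rw [glo_mul, glo_mul, C.glo_xpSo, C.glo_xmSo, e3, e4]
      simp
  · have hj3 : 2 * j + 3 = N := by omega
    have h2 := C.h2
    have h4 : (4 : F) ≠ 0 := by
      have : (4 : F) = 2 * 2 := by norm_num
      rw [this]
      exact mul_ne_zero h2 h2
    refine ⟨C.xpOo j hj3 2 (-2) two_neg_two, C.xpOo_mem j hj3 _ _ _,
      C.xmOo j hj3 2 (-2) two_neg_two, C.xmOo_mem j hj3 _ _ _, ?_⟩
    have hk : j < N := by omega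
    have hm : j + 1 < N := by omega
    have hk2 : j + 2 < N := by omega
    have hkr : (⟨j, hk⟩ : Fin N).rev = ⟨j + 2, hk2⟩ := by
      apply Fin.ext
      rw [val_rev_mk]
      simp only
      omega
    have hk2r : (⟨j + 2, hk2⟩ : Fin N).rev = ⟨j, hk⟩ := by
      rw [← hkr, Fin.rev_rev]
    have n1 : (⟨j, hk⟩ : Fin N) ≠ ⟨j + 1, hm⟩ := fin_ne (by simp)
    have n2 : (⟨j, hk⟩ : Fin N) ≠ ⟨j + 2, hk2⟩ := fin_ne (by simp)
    have n3 : (⟨j + 1, hm⟩ : Fin N) ≠ ⟨j + 2, hk2⟩ := fin_ne (by simp)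
    apply C.map_ne_of_row f hker _ _ (⟨j, hk⟩ : Fin N) ⟨j + 2, hk2⟩ ⟨j + 1, hm⟩
    · rw [glo_mul, glo_mul, C.glo_xpOo, C.glo_xmOo, Units.val_mul, Units.val_mul,
        xO_mul_apply_row, xO_mul_apply_other _ _ _ _ _ _ _ _ _ _ _ n2 n1]
      simp only [xO_apply, hkr, hk2r]
      simp [n1, n2, n3, n1.symm, n2.symm, n3.symm]
    · rw [glo_mul, C.glo_xpOo, C.glo_xmOo, Units.val_mul,
        xO_mul_apply_other _ _ _ _ _ _ _ _ _ _ _ n2 n1]
      simp only [xO_apply, hkr]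
      simp [n2, h2]
    · rw [glo_mul, glo_mul, C.glo_xpOo, C.glo_xmOo, Units.val_mul, Units.val_mul,
        xO_mul_apply_row, xO_mul_apply_other _ _ _ _ _ _ _ _ _ _ _ n2 n1]
      simp only [xO_apply, hkr, hk2r]
      simp [n1, n2, n3, n1.symm, n2.symm, n3.symm]
      intro h
      exact h2 h

/-- the positive root subgroups of adjacent nodes do not commute -/
theorem OCtx.adj_ncomm (C : OCtx N F) {i : ℕ} (hi : i + 1 < N / 2) :
    ∃ x ∈ Xpo N F i, ∃ y ∈ Xpo N F (i + 1), x * y ≠ y * x := by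
  have hodd := C.hodd
  have hi4 : 2 * i + 4 ≤ N := by omega
  by_cases hs : 2 * (i + 1) + 4 ≤ N
  · refine ⟨C.xpSo i hi4 1, C.xpSo_mem i hi4 1, C.xpSo (i + 1) hs 1,
      C.xpSo_mem (i + 1) hs 1, ?_⟩
    intro e
    obtain ⟨e1, e2⟩ := xS_xS_adj (RingHom.id F) (⟨i, by omega⟩ : Fin N) ⟨i + 1, by omega⟩
      ⟨i + 1 + 1, by omega⟩ (fin_ne (by simp)) (fin_ne (by simp))
      (fin_ne (by simp only; omega))
      (fin_ne (by rw [val_rev_mk]; simp only; omega))
      (fin_ne (by rw [val_rev_mk]; simp only; omega))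
      (fin_ne (by rw [val_rev_mk]; simp only; omega))
      (fin_ne (by rw [val_rev_mk]; simp only; omega))
      (fin_ne (by rw [val_rev_mk]; simp only; omega)) 1 1
    have e' := congrArg (fun g => ((glo g : GL (Fin N) F) : Matrix (Fin N) (Fin N) F)
      (⟨i, by omega⟩ : Fin N) ⟨i + 1 + 1, by omega⟩) e
    simp only [glo_mul, OCtx.glo_xpSo] at e'
    rw [e1, e2] at e'
    simp at e'
  · have hj3 : 2 * (i + 1) + 3 = N := by omega
    refine ⟨C.xpSo i hi4 1, C.xpSo_mem i hi4 1, C.xpOo (i + 1) hj3 2 (-2) two_neg_two,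
      C.xpOo_mem (i + 1) hj3 _ _ _, ?_⟩
    intro e
    have hk' : i < N := by omega
    have hk : i + 1 < N := by omega
    have hm : i + 1 + 1 < N := by omega
    have n1 : (⟨i, hk'⟩ : Fin N) ≠ ⟨i + 1, hk⟩ := fin_ne (by simp)
    have n2 : (⟨i, hk'⟩ : Fin N) ≠ ⟨i + 1 + 1, hm⟩ := fin_ne (by simp only; omega)
    have n3 : (⟨i + 1, hk⟩ : Fin N) ≠ ⟨i + 1 + 1, hm⟩ := fin_ne (by simp)
    have r1 : (⟨i, hk'⟩ : Fin N) ≠ (⟨i + 1, hk⟩ : Fin N).rev :=
      fin_ne (by rw [val_rev_mk]; simp only; omega)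
    have r3 : (⟨i + 1, hk⟩ : Fin N) ≠ (⟨i + 1, hk⟩ : Fin N).rev :=
      fin_ne (by rw [val_rev_mk]; simp only; omega)
    have e' := congrArg (fun g => ((glo g : GL (Fin N) F) : Matrix (Fin N) (Fin N) F)
      (⟨i, hk'⟩ : Fin N) ⟨i + 1 + 1, hm⟩) e
    simp only [glo_mul, OCtx.glo_xpSo, OCtx.glo_xpOo] at e'
    rw [Units.val_mul, Units.val_mul, xS_mul_apply_row _ _ _ _ r1 r3,
      xO_mul_apply_other _ _ _ _ _ _ _ _ _ _ _ n1 n2, xS_apply _ _ _ _ r3] at e'
    have r5 : (⟨i + 1, hk⟩ : Fin N).rev ≠ ⟨i + 1 + 1, hm⟩ :=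
      fin_ne (by rw [val_rev_mk]; simp only; omega)
    simp only [xO_apply] at e'
    simp [n2, n3, n1.symm, n2.symm, n3.symm, r1.symm, r5] at e'
    exact C.h2 e'

end grp

end Cfsg.Agent.Lib.Helper8.AutOm
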