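import Cfsg.Agent.Lib.Helper8.AutOm.FactsE
import Cfsg.Agent.Lib.Helper5.AutSO.Engel
import Cfsg.Agent.Lib.Helper5.AutSU.NormalForm
import Mathlib

/-!
# `Ω_N(F)`, `N` odd: the normal form of an automorphism of the central quotient (helper8, after
helper5's `AutSU.NormalForm`)

Every automorphism of the central quotient of `Ω` is, after composition with an inner
automorphism, one which fixes the images of `U`, `V`, `B` and of every fundamental root subgroup.
-/

set_option autoImplicit false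

namespace Cfsg.Agent.Lib.Helper8.AutOm

open Matrix Cfsg Cfsg.Agent.Lib.Helper5.GLBN Cfsg.Agent.Lib.Helper8.SpBN
open Cfsg.Agent.Lib.Helper8.Tw Cfsg.Agent.PSUT Cfsg.Agent.Lib.Helper8.AutSp
open Cfsg.Agent.Lib.Helper5.AutBN Cfsg.Agent.Lib.Helper8.AutSp Cfsg.Agent.Lib.Helper5.AutSU
open Cfsg.Agent.Lib.Helper5.AutSO
open scoped MatrixGroups

section

variable {N : ℕ} {F : Type*} [Field F] [Fintype F] 

theorem OCtx.not_commIm (C : OCtx N F) {Q : Type*} [Group Q] (f : Omm N F →* Q)
    (hker : f.ker = Subgroup.center (Omm N F)) {A B : Subgroup (Omm N F)}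
    (hA : A ≤ UUo N F) (hB : B ≤ UUo N F) (h : ∃ x ∈ A, ∃ y ∈ B, x * y ≠ y * x) :
    ¬ CommIm f A B := by
  intro hc
  obtain ⟨x, hx, y, hy, hne⟩ := h
  apply hne
  apply C.f_inj_UUo f hker (mul_mem (hA hx) (hB hy)) (mul_mem (hB hy) (hA hx))
  rw [map_mul, map_mul]
  exact hc _ (Subgroup.mem_map_of_mem f hx) _ (Subgroup.mem_map_of_mem f hy)

/-- the images of the positive root subgroups of two distinct nodes commute exactly when the
nodes are not adjacent -/
theorem OCtx.commIm_iff (C : OCtx N F) {Q : Type*} [Group Q] (f : Omm N F →* Q)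
    (hker : f.ker = Subgroup.center (Omm N F)) (i j : Fin (N / 2)) (hij : i ≠ j) :
    CommIm f (Xpo N F (i : ℕ)) (Xpo N F (j : ℕ)) ↔ ¬ PAdj i j := by
  have hi := i.2
  have hj := j.2
  constructor
  · intro hc hadj
    rcases hadj with h | h
    · have h1 : (i : ℕ) + 1 < N / 2 := by omega
      have h2 := C.adj_ncomm h1
      rw [h] at h2
      exact C.not_commIm f hker (Xpo_le_UUo _) (Xpo_le_UUo _) h2 hc
    · have h1 : (j : ℕ) + 1 < N / 2 := by omega
      have h2 := C.adj_ncomm h1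
      rw [h] at h2
      exact C.not_commIm f hker (Xpo_le_UUo _) (Xpo_le_UUo _) h2 (commIm_symm f hc)
  · intro hn
    apply commIm_of_comm
    intro x hx y hy
    have hi2 : 2 * (i : ℕ) + 2 ≤ N := by omega
    have hj2 : 2 * (j : ℕ) + 2 ≤ N := by omega
    obtain ⟨hx1, hx2⟩ := (mem_Xpo hi2).1 hx
    obtain ⟨hy1, hy2⟩ := (mem_Xpo hj2).1 hy
    apply glo_injective
    apply Units.ext
    rw [glo_mul, glo_mul, Units.val_mul, Units.val_mul]
    apply up_up_comm hi2 hj2 _ _ hx1 hx2 hy1 hy2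
    · intro e
      exact hij (Fin.ext e)
    · intro e
      exact hn (Or.inl e)
    · intro e
      exact hn (Or.inr e)

/-- for `x` in the root subgroup of the first node and `y` in that of the second node, `x`
commutes with its conjugate under `y` -/
theorem OCtx.engel_first (C : OCtx N F) {x y : Omm N F} (hx : x ∈ Xpo N F 0)
    (hy : y ∈ Xpo N F 1) : x * (y * x * y⁻¹) = (y * x * y⁻¹) * x := by
  have hN := C.hN
  obtain ⟨hx1, hx2⟩ := (mem_Xpo (j := 0) (by omega)).1 hx
  obtain ⟨hy1, hy2⟩ := (mem_Xpo (j := 1) (by omega)).1 hy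
  obtain ⟨hy1', hy2'⟩ := (mem_Xpo (j := 1) (by omega)).1 (inv_mem hy)
  apply glo_injective
  apply Units.ext
  simp only [glo_mul, Units.val_mul]
  apply engel_short (i := 0) (by omega) hx1 hx2 hy1 hy2 hy1' hy2'
  rw [← Units.val_mul, ← glo_mul, mul_inv_cancel, glo_one, Units.val_one]

/-- the first two nodes are not exchanged with the last two -/
theorem OCtx.not_rev (C : OCtx N F) {Q : Type*} [Group Q] (f : Omm N F →* Q)
    (hker : f.ker = Subgroup.center (Omm N F)) (τ : Q ≃* Q)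
    (H0 : ((Xpo N F 0).map f).map τ.toMonoidHom = (Xpo N F (N / 2 - 1)).map f)
    (H1 : ((Xpo N F 1).map f).map τ.toMonoidHom = (Xpo N F (N / 2 - 2)).map f) : False := by
  have hN := C.hN
  have hodd := C.hodd
  have hj : 2 * (N / 2 - 1) + 3 = N := by omega
  obtain ⟨x, hx, y, hy, hne⟩ := engel_last_ne C.h2 hj (by omega)
  have hy' : y ∈ Xp N F (RingHom.id F) (N / 2 - 2) := by
    have e : N / 2 - 1 - 1 = N / 2 - 2 := by omega
    rw [← e]
    exact hy
  set xo : Omm N F := ⟨x, C.Xp_le_OmS _ hx⟩ with hxo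
  set yo : Omm N F := ⟨y, C.Xp_le_OmS _ hy'⟩ with hyo
  have hxo' : xo ∈ Xpo N F (N / 2 - 1) := hx
  have hyo' : yo ∈ Xpo N F (N / 2 - 2) := hy'
  have h1 : f xo ∈ ((Xpo N F 0).map f).map τ.toMonoidHom := by
    rw [H0]
    exact Subgroup.mem_map_of_mem f hxo'
  have h2 : f yo ∈ ((Xpo N F 1).map f).map τ.toMonoidHom := by
    rw [H1]
    exact Subgroup.mem_map_of_mem f hyo'
  obtain ⟨_, ⟨x0, hx0, rfl⟩, ex⟩ := h1
  obtain ⟨_, ⟨y0, hy0, rfl⟩, ey⟩ := h2
  have ex' : τ (f x0) = f xo := ex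
  have ey' : τ (f y0) = f yo := ey
  have h3 := congrArg (fun g => τ (f g)) (C.engel_first hx0 hy0)
  simp only [map_mul, map_inv, ex', ey'] at h3
  have h4 : f (xo * (yo * xo * yo⁻¹)) = f ((yo * xo * yo⁻¹) * xo) := by
    simp only [map_mul, map_inv]
    exact h3
  have hxU : xo ∈ UUo N F := Xpo_le_UUo _ hxo'
  have hyU : yo ∈ UUo N F := Xpo_le_UUo _ hyo'
  have hcU : yo * xo * yo⁻¹ ∈ UUo N F := mul_mem (mul_mem hyU hxU) (inv_mem hyU)
  have h5 := C.f_inj_UUo f hker (mul_mem hxU hcU) (mul_mem hcU hxU) h4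
  apply hne
  exact congrArg Subtype.val h5


/-- **The normal form.**  Every automorphism of the central quotient of `Ω` is, up to an inner automorphism, one which fixes the images of `U`, `V`, `B` and of all
fundamental root subgroups. -/
theorem OCtx.om_normal_form (C : OCtx N F) (p : ℕ) [Fact p.Prime] [CharP F p] {Q : Type*}
    [Group Q] (f : Omm N F →* Q) (hf : Function.Surjective f)
    (hker : f.ker = Subgroup.center (Omm N F)) (θ : Q ≃* Q) :
    ∃ x : Q,
      ((UUo N F).map f).map (θ.trans (MulAut.conj x⁻¹)).toMonoidHom = (UUo N F).map f ∧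
      ((VVo N F).map f).map (θ.trans (MulAut.conj x⁻¹)).toMonoidHom = (VVo N F).map f ∧
      ((BBo N F).map f).map (θ.trans (MulAut.conj x⁻¹)).toMonoidHom = (BBo N F).map f ∧
      (∀ j, j < N / 2 → ((Xpo N F j).map f).map (θ.trans (MulAut.conj x⁻¹)).toMonoidHom
        = (Xpo N F j).map f) ∧
      (∀ j, j < N / 2 → ((Xmo N F j).map f).map (θ.trans (MulAut.conj x⁻¹)).toMonoidHom
        = (Xmo N F j).map f) := by
  haveI : Finite Q := Finite.of_surjective f hf
  have hj2 : ∀ i : Fin (N / 2), 2 * (i : ℕ) + 2 ≤ N := fun i => by have := i.2; omega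
  obtain ⟨x, ρ, hU, hV, hB, -, hXp, hXm⟩ := exists_normal_form_push C.P f hf
    (by rw [hker]; exact C.center_le_B) p
    (fun i : Fin (N / 2) => C.sN (i : ℕ)) (UUo N F) (VVo N F) C.n0
    (fun i : Fin (N / 2) => Xpo N F (i : ℕ)) (fun i : Fin (N / 2) => Xmo N F (i : ℕ))
    C.sN_injective C.range_sN (isPGroup_UUo p) (C.index_UUo p)
    (by rw [C.P_B]; exact UUo_normal) (by rw [C.P_B]; exact UUo_le_BBo)
    C.exists_TU (by rw [hker]; exact C.UUo_inf_center) C.cj_n0_UUo C.cj_n0_VVo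
    (by rw [C.P_B]; exact BBo_inf_VVo) C.hopp
    (fun i => C.Xm_eq i.2) (fun i => C.cj_n0_Xm (hj2 i))
    (by
      intro i j hij x hx y hy
      obtain ⟨hx1, hx2⟩ := (mem_Xpo (hj2 i)).1 hx
      obtain ⟨hy1, hy2⟩ := (mem_Xmo (hj2 j)).1 hy
      apply glo_injective
      apply Units.ext
      rw [glo_mul, glo_mul, Units.val_mul, Units.val_mul]
      exact up_lo_comm (hj2 i) (hj2 j) (fun e => hij (Fin.ext e)) hx1 hx2 hy1 hy2)
    (fun i => C.hncomm f hker i.2) θ
  have hadj : ∀ i j : Fin (N / 2), PAdj (ρ i) (ρ j) ↔ PAdj i j := by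
    intro i j
    by_cases hij : i = j
    · subst hij
      unfold PAdj
      omega
    · have h1 := C.commIm_iff f hker i j hij
      have h2 := C.commIm_iff f hker (ρ i) (ρ j) (fun e => hij (ρ.injective e))
      have h3 := commIm_transport f (θ.trans (MulAut.conj x⁻¹)) (hXp i) (hXp j)
      rw [← not_iff_not, ← h2, ← h1]
      exact h3.symm
  have hρ : ρ = 1 := by
    rcases path_aut ρ hadj with h | h
    · exact h
    · by_cases hl : N / 2 ≤ 1
      · ext i
        have := i.2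
        have := (ρ i).2
        rw [Equiv.Perm.one_apply]
        omega
      · exfalso
        have hN := C.hN
        have hl2 : 3 ≤ N / 2 := by omega
        have H0 := hXp ⟨0, by omega⟩
        have H1 := hXp ⟨1, by omega⟩
        rw [h] at H0 H1
        have e0 : (((Fin.revPerm (⟨0, by omega⟩ : Fin (N / 2)) : Fin (N / 2)) : ℕ)) = N / 2 - 1 := by
          rw [Fin.revPerm_apply, Fin.val_rev]
        have e1 : (((Fin.revPerm (⟨1, by omega⟩ : Fin (N / 2)) : Fin (N / 2)) : ℕ)) = N / 2 - 2 := by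
          rw [Fin.revPerm_apply, Fin.val_rev]
        simp only [e0] at H0
        simp only [e1] at H1
        exact C.not_rev f hker (θ.trans (MulAut.conj x⁻¹)) H0 H1
  subst hρ
  refine ⟨x, hU, hV, ?_, fun j hj => hXp ⟨j, hj⟩, fun j hj => hXm ⟨j, hj⟩⟩
  rw [← C.P_B]
  exact hB

end

end Cfsg.Agent.Lib.Helper8.AutOm
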