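import Cfsg.Agent.Lib.Helper8.AutOm.NormalFormO
import Cfsg.Agent.Lib.Helper5.AutSU.Torus
import Mathlib

/-!
# `Ω_N(F)`, `N` odd: the diagonal torus in the normal form (helper8, after helper5's `AutSU.Torus`)

The automorphism of the normal form also fixes the image of the diagonal torus
`T = B ∩ n₀ B n₀⁻¹`.
-/

set_option autoImplicit false

namespace Cfsg.Agent.Lib.Helper8.AutOm

open Matrix Cfsg Cfsg.Agent.Lib.Helper5.GLBN Cfsg.Agent.Lib.Helper8.SpBN
open Cfsg.Agent.Lib.Helper8.Tw Cfsg.Agent.PSUT Cfsg.Agent.Lib.Helper8.AutSp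
open Cfsg.Agent.Lib.Helper5.AutBN Cfsg.Agent.Lib.Helper8.AutSp Cfsg.Agent.Lib.Helper5.AutSU
open scoped MatrixGroups

section

variable {N : ℕ} {F : Type*} [Field F] [Fintype F] 

/-- the opposite Borel subgroup consists of the lower triangular elements -/
theorem OCtx.mem_cj_n0_BBo (C : OCtx N F) {g : Omm N F} :
    g ∈ cj C.n0 (BBo N F) ↔ ∀ a b : Fin N, a < b →
      ((glo g : GL (Fin N) F) : Matrix (Fin N) (Fin N) F) a b = 0 := by
  rw [mem_cj, mem_BBo]
  constructor
  · intro h a b hab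
    have h1 := (C.n0_conj_eq_zero_iff g a.rev b.rev).1 (h a.rev b.rev (Fin.rev_lt_rev.2 hab))
    rwa [Fin.rev_rev, Fin.rev_rev] at h1
  · intro h a b hba
    exact (C.n0_conj_eq_zero_iff g a b).2 (h a.rev b.rev (Fin.rev_lt_rev.2 hba))

/-- the diagonal torus is the intersection of the two opposite Borel subgroups -/
theorem OCtx.TTo_eq (C : OCtx N F) : TTo N F = BBo N F ⊓ cj C.n0 (BBo N F) := by
  ext g
  rw [Subgroup.mem_inf, C.mem_cj_n0_BBo, mem_BBo, mem_TTo]
  constructor
  · intro h
    exact ⟨fun a b hba => h a b (ne_of_gt hba), fun a b hab => h a b (ne_of_lt hab)⟩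
  · rintro ⟨h1, h2⟩ a b hab
    rcases lt_or_gt_of_ne hab with h | h
    · exact h2 a b h
    · exact h1 a b h

variable {Q : Type*} [Group Q]

/-- the normalizer of the image of `U` in the central quotient is the image of `B` -/
theorem OCtx.normalizer_map_UUo (C : OCtx N F) (f : Omm N F →* Q)
    (hf : Function.Surjective f) (hker : f.ker = Subgroup.center (Omm N F)) :
    Subgroup.normalizer (((UUo N F).map f : Subgroup Q) : Set Q) = (BBo N F).map f := by
  have hker' : f.ker ≤ C.P.B := by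
    rw [hker]
    exact C.center_le_B
  have h := normalizer_eq_B (pushBN C.P f hf hker') ((UUo N F).map f)
    (by
      rintro _ ⟨b, hb, rfl⟩ _ ⟨u, hu, rfl⟩
      rw [C.P_B] at hb
      exact ⟨b * u * b⁻¹, UUo_normal b hb u hu, by rw [map_mul, map_mul, map_inv]⟩)
    (by
      rw [pushBN_B, C.P_B]
      exact Subgroup.map_mono UUo_le_BBo)
    (by
      rintro _ ⟨b, hb, rfl⟩
      obtain ⟨t, ht, u, hu, rfl⟩ := C.exists_TU b hb
      exact ⟨f t, ⟨Subgroup.mem_map_of_mem f ht.1, Subgroup.mem_map_of_mem f ht.2⟩, f u,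
        Subgroup.mem_map_of_mem f hu, map_mul f t u⟩)
  rw [pushBN_B, C.P_B] at h
  exact h

/-- the normalizer of the image of `V` in the central quotient is the image of the opposite
Borel subgroup -/
theorem OCtx.normalizer_map_VVo (C : OCtx N F) (f : Omm N F →* Q)
    (hf : Function.Surjective f) (hker : f.ker = Subgroup.center (Omm N F)) :
    Subgroup.normalizer (((VVo N F).map f : Subgroup Q) : Set Q)
      = (cj C.n0 (BBo N F)).map f := by
  rw [← C.cj_n0_UUo, ← cj_map, Cfsg.Agent.Lib.Helper5.AutSU.normalizer_cj, C.normalizer_map_UUo f hf hker, cj_map]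

/-- an automorphism of the central quotient fixing the images of `B` and `V` fixes the image of
the diagonal torus -/
theorem OCtx.map_TTo_of_map_eq (C : OCtx N F) (f : Omm N F →* Q)
    (hf : Function.Surjective f) (hker : f.ker = Subgroup.center (Omm N F)) (τ : Q ≃* Q)
    (hB : ((BBo N F).map f).map τ.toMonoidHom = (BBo N F).map f)
    (hV : ((VVo N F).map f).map τ.toMonoidHom = (VVo N F).map f) :
    ((TTo N F).map f).map τ.toMonoidHom = (TTo N F).map f := by
  have hkB : f.ker ≤ BBo N F := by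
    rw [hker, ← C.P_B]
    exact C.center_le_B
  have h1 := map_normalizer_of_map_eq τ _ hV
  rw [C.normalizer_map_VVo f hf hker] at h1
  rw [C.TTo_eq, map_inf_of_ker_le hkB, Subgroup.map_inf _ _ _ τ.injective, hB, h1]

/-- **The normal form, with the torus.** -/
theorem OCtx.om_normal_form_torus (C : OCtx N F) (p : ℕ) [Fact p.Prime] [CharP F p]
    (f : Omm N F →* Q) (hf : Function.Surjective f)
    (hker : f.ker = Subgroup.center (Omm N F)) (θ : Q ≃* Q) :
    ∃ x : Q,
      ((UUo N F).map f).map (θ.trans (MulAut.conj x⁻¹)).toMonoidHom = (UUo N F).map f ∧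
      ((VVo N F).map f).map (θ.trans (MulAut.conj x⁻¹)).toMonoidHom = (VVo N F).map f ∧
      ((BBo N F).map f).map (θ.trans (MulAut.conj x⁻¹)).toMonoidHom = (BBo N F).map f ∧
      ((TTo N F).map f).map (θ.trans (MulAut.conj x⁻¹)).toMonoidHom = (TTo N F).map f ∧
      (∀ j, j < N / 2 → ((Xpo N F j).map f).map (θ.trans (MulAut.conj x⁻¹)).toMonoidHom
        = (Xpo N F j).map f) ∧
      (∀ j, j < N / 2 → ((Xmo N F j).map f).map (θ.trans (MulAut.conj x⁻¹)).toMonoidHom
        = (Xmo N F j).map f) := by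
  obtain ⟨x, hU, hV, hB, hXp, hXm⟩ := C.om_normal_form p f hf hker θ
  exact ⟨x, hU, hV, hB, C.map_TTo_of_map_eq f hf hker _ hB hV, hXp, hXm⟩

end

end Cfsg.Agent.Lib.Helper8.AutOm
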